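import Mathlib

/-!
# Finite linear groups in characteristic `p`: splitting along an invariant subspace

Basic tools for the theorem of Brauer and Feit.
-/

set_option autoImplicit false

namespace Cfsg.Agent.Classical.BrauerFeit

universe u v

variable {K : Type v} [Field K] {p : ℕ} [Fact p.Prime]
variable {G : Type u} [Group G] [Finite G]
variable {V : Type v} [AddCommGroup V] [Module K V]

/-- the elements acting as scalars -/
def scal (ρ : G →* Module.End K V) : Subgroup G where
  carrier := {g | ∃ c : K, ρ g = c • (1 : Module.End K V)}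
  one_mem' := ⟨1, by rw [map_one, one_smul]⟩
  mul_mem' := by
    rintro a b ⟨c, hc⟩ ⟨d, hd⟩
    exact ⟨c * d, by rw [map_mul, hc, hd, smul_mul_smul_comm, one_mul]⟩
  inv_mem' := by
    rintro a ⟨c, hc⟩
    have h : c • ρ a⁻¹ = 1 := by
      rw [← map_one ρ, ← mul_inv_cancel a, map_mul, hc, smul_mul_assoc, one_mul]
    by_cases h0 : c = 0
    · rw [h0, zero_smul] at h
      exact ⟨0, by rw [← mul_one (ρ a⁻¹), ← h, mul_zero, smul_zero]⟩
    · exact ⟨c⁻¹, by rw [← h, smul_smul, inv_mul_cancel₀ h0, one_smul]⟩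

theorem scal_commute {ρ : G →* Module.End K V} (hρ : Function.Injective ρ) {z : G} (hz : z ∈ scal ρ)
    (g : G) : Commute z g := by
  obtain ⟨c, hc⟩ := hz
  refine hρ ?_
  rw [map_mul, map_mul, hc, smul_mul_assoc, one_mul, mul_smul_comm, mul_one]

/-- the restriction to an invariant subspace -/
def onSub (ρ : G →* Module.End K V) (W : Submodule K V) (hW : ∀ g, ∀ w ∈ W, ρ g w ∈ W) :
    G →* Module.End K W where
  toFun g := (ρ g).restrict (hW g)
  map_one' := by ext w; simp
  map_mul' a b := by ext w; simp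

/-- the action on the quotient by an invariant subspace -/
def onQuot (ρ : G →* Module.End K V) (W : Submodule K V) (hW : ∀ g, ∀ w ∈ W, ρ g w ∈ W) :
    G →* Module.End K (V ⧸ W) where
  toFun g := W.mapQ W (ρ g) (hW g)
  map_one' := by ext x; simp
  map_mul' a b := by ext x; simp

theorem aeval_onSub (ρ : G →* Module.End K V) {W : Submodule K V} (hW : ∀ g, ∀ w ∈ W, ρ g w ∈ W)
    (g : G) (Q : Polynomial K) (h : Polynomial.aeval (ρ g) Q = 0) :
    Polynomial.aeval (onSub ρ W hW g) Q = 0 := by
  ext w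
  have key : ∀ P : Polynomial K, ((Polynomial.aeval (onSub ρ W hW g) P w : W) : V) =
      Polynomial.aeval (ρ g) P (w : V) := by
    intro P
    induction P using Polynomial.induction_on generalizing w with
    | C a => simp [Module.algebraMap_end_apply]
    | add P R hP hR => simp [hP, hR]
    | monomial k a ih =>
      rw [pow_succ, ← mul_assoc, map_mul (Polynomial.aeval (onSub ρ W hW g)),
        map_mul (Polynomial.aeval (ρ g)), Polynomial.aeval_X, Polynomial.aeval_X,
        Module.End.mul_apply, Module.End.mul_apply, ih]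
      rfl
  rw [key, h]
  simp

theorem aeval_onQuot (ρ : G →* Module.End K V) {W : Submodule K V} (hW : ∀ g, ∀ w ∈ W, ρ g w ∈ W)
    (g : G) (Q : Polynomial K) (h : Polynomial.aeval (ρ g) Q = 0) :
    Polynomial.aeval (onQuot ρ W hW g) Q = 0 := by
  ext x
  have key : ∀ P : Polynomial K, ∀ v : V, Polynomial.aeval (onQuot ρ W hW g) P (Submodule.Quotient.mk v) =
      (Submodule.Quotient.mk (Polynomial.aeval (ρ g) P v) : V ⧸ W) := by
    intro P
    induction P using Polynomial.induction_on with
    | C a => intro v; simp [Module.algebraMap_end_apply]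
    | add P R hP hR => intro v; simp [hP, hR]
    | monomial k a ih =>
      intro v
      rw [pow_succ, ← mul_assoc, map_mul (Polynomial.aeval (onQuot ρ W hW g)),
        map_mul (Polynomial.aeval (ρ g)), Polynomial.aeval_X, Polynomial.aeval_X,
        Module.End.mul_apply, Module.End.mul_apply, ← ih]
      rfl
  simp [key, h]

/-- an element which is no scalar has an invariant proper subspace for its centraliser -/
theorem exists_invariant [IsAlgClosed K] [FiniteDimensional K V] {ρ : G →* Module.End K V} {x : G}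
    (hx : x ∉ scal ρ) :
    ∃ W : Submodule K V, W ≠ ⊥ ∧ W ≠ ⊤ ∧ ∀ g, Commute g x → ∀ w ∈ W, ρ g w ∈ W := by
  haveI : Nontrivial V := by
    by_contra h
    rw [not_nontrivial_iff_subsingleton] at h
    exact hx ⟨0, LinearMap.ext fun v => Subsingleton.elim _ _⟩
  obtain ⟨μ, hμ⟩ := Module.End.exists_eigenvalue (ρ x)
  refine ⟨(ρ x).eigenspace μ, hμ, fun h => hx ⟨μ, LinearMap.ext fun v => ?_⟩, fun g hg w hw => ?_⟩
  · have : v ∈ (ρ x).eigenspace μ := h ▸ Submodule.mem_top
    rw [Module.End.mem_eigenspace_iff] at this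
    simpa using this
  · rw [Module.End.mem_eigenspace_iff] at hw ⊢
    rw [← Module.End.mul_apply, ← map_mul, ← hg.eq, map_mul, Module.End.mul_apply, hw, map_smul]

theorem ker_add {ρ : G →* Module.End K V} {W : Submodule K V} (hW : ∀ g, ∀ w ∈ W, ρ g w ∈ W) {a b : G}
    (ha : a ∈ (onSub ρ W hW).ker ⊓ (onQuot ρ W hW).ker) (hb : b ∈ (onSub ρ W hW).ker ⊓ (onQuot ρ W hW).ker)
    (v : V) : ρ (a * b) v = ρ a v + (ρ b v - v) := by
  have h2 : ρ b v - v ∈ W := by
    have := LinearMap.congr_fun (MonoidHom.mem_ker.1 hb.2) (Submodule.Quotient.mk v)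
    rw [← Submodule.Quotient.eq]
    exact this
  have h1 : ρ a (ρ b v - v) = ρ b v - v :=
    congrArg Subtype.val (LinearMap.congr_fun (MonoidHom.mem_ker.1 ha.1) ⟨_, h2⟩)
  rw [map_mul, Module.End.mul_apply]
  conv_rhs => rw [← h1]
  rw [← map_add, add_sub_cancel]

/-- the common kernel of the two actions is a `p`-group -/
theorem isPGroup_ker [CharP K p] {ρ : G →* Module.End K V} (hρ : Function.Injective ρ) {W : Submodule K V}
    (hW : ∀ g, ∀ w ∈ W, ρ g w ∈ W) : IsPGroup p ↥((onSub ρ W hW).ker ⊓ (onQuot ρ W hW).ker) := by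
  intro a
  have hk : ∀ k : ℕ, ∀ v, ρ ((a : G) ^ k) v = v + k • (ρ (a : G) v - v) := by
    intro k
    induction k with
    | zero => intro v; simp
    | succ k ih =>
      intro v
      rw [pow_succ', ker_add hW a.2 (pow_mem a.2 k), ih, succ_nsmul]
      abel
  refine ⟨1, Subtype.ext (hρ (LinearMap.ext fun v => ?_))⟩
  rw [Subgroup.coe_pow, pow_one, hk, ← Nat.cast_smul_eq_nsmul K, CharP.cast_eq_zero, zero_smul,
    add_zero, Subgroup.coe_one, map_one, Module.End.one_apply]

/-- the common kernel of the two actions is an abelian `p`-group -/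
theorem ker_facts [CharP K p] {ρ : G →* Module.End K V} (hρ : Function.Injective ρ) {W : Submodule K V}
    (hW : ∀ g, ∀ w ∈ W, ρ g w ∈ W) {m : ℕ} (hm : (Nat.card G).factorization p ≤ m) :
    let N := (onSub ρ W hW).ker ⊓ (onQuot ρ W hW).ker
    (∀ a ∈ N, ∀ b ∈ N, Commute a b) ∧ Nat.card N ≤ p ^ m := by
  intro N
  have h3 : ∀ a ∈ N, ∀ b ∈ N, ∀ v, ρ (a * b) v = ρ a v + (ρ b v - v) := fun a ha b hb =>
    ker_add hW ha hb
  refine ⟨fun a ha b hb => hρ (LinearMap.ext fun v => ?_), ?_⟩
  · rw [h3 a ha b hb, h3 b hb a ha]; abel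
  · have hp : IsPGroup p N := isPGroup_ker hρ hW
    obtain ⟨j, hj⟩ := IsPGroup.iff_card.1 hp
    rw [hj]
    refine Nat.pow_le_pow_right (Fact.out (p := p.Prime)).pos (le_trans ?_ hm)
    exact (Nat.Prime.pow_dvd_iff_le_factorization Fact.out Nat.card_pos.ne').1
      (hj ▸ Subgroup.card_subgroup_dvd_card N)

theorem finrank_lt [FiniteDimensional K V] {W : Submodule K V} (h0 : W ≠ ⊥) (h1 : W ≠ ⊤) :
    Module.finrank K W < Module.finrank K V ∧ Module.finrank K (V ⧸ W) < Module.finrank K V := by
  have e := W.finrank_quotient_add_finrank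
  have a := Submodule.finrank_lt h1
  have b := Submodule.one_le_finrank_iff.2 h0
  omega

theorem factorization_card_le_of_dvd {a b : ℕ} (h : a ∣ b) (hb : b ≠ 0) (r : ℕ) :
    a.factorization r ≤ b.factorization r :=
  (Nat.factorization_le_iff_dvd (fun ha => hb (Nat.eq_zero_of_zero_dvd (ha ▸ h))) hb).2 h r

/-- the induced injective map on the quotient by the kernel -/
def lk {M : Type*} [Monoid M] (r : G →* M) : G ⧸ r.ker →* M :=
  QuotientGroup.lift r.ker r le_rfl

theorem lk_mk {M : Type*} [Monoid M] (r : G →* M) (g : G) : lk r (g : G ⧸ r.ker) = r g := rfl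

theorem lk_injective {M : Type*} [Monoid M] (r : G →* M) : Function.Injective (lk r) := by
  refine (injective_iff_map_eq_one (lk r)).2 fun a ha => ?_
  obtain ⟨a, rfl⟩ := QuotientGroup.mk_surjective a
  exact (QuotientGroup.eq_one_iff a).2 ha

end Cfsg.Agent.Classical.BrauerFeit
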