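import Mathlib
import Cfsg.Agent.Lib.Classical.BrauerFeit.Split

/-!
# Two bounds for finite linear groups with small Sylow `p`-subgroup

Few elements of an abelian group satisfy a given polynomial, and centralisers of non-scalar
elements are virtually abelian as soon as this holds in smaller dimension.
-/

set_option autoImplicit false

namespace Cfsg.Agent.Classical.BrauerFeit

universe u v

variable (p : ℕ)

/-- Bounded normal abelian index in dimension at most `n`. -/
def VirtAbelian (n m : ℕ) : Prop :=
  ∃ L : ℕ, ∀ (G : Type u) [Group G] [Finite G] (K : Type v) [Field K] [IsAlgClosed K] [CharP K p]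
    (V : Type v) [AddCommGroup V] [Module K V] [FiniteDimensional K V] (ρ : G →* Module.End K V),
    Function.Injective ρ → Module.finrank K V ≤ n → (Nat.card G).factorization p ≤ m →
    ∃ A : Subgroup G, A.Normal ∧ (∀ a ∈ A, ∀ b ∈ A, Commute a b) ∧ A.index ≤ L

/-- an upper bound for the roots of a polynomial of degree `d` in an abelian group -/
def rootBound (m d : ℕ) : ℕ → ℕ
  | 0 => 1
  | n + 1 => max (max d 1) (rootBound m d n * rootBound m d n * p ^ m)

variable [Fact p.Prime] {K : Type v} [Field K] [IsAlgClosed K] [CharP K p]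

theorem one_le_rootBound (m d : ℕ) : ∀ n, 1 ≤ rootBound p m d n
  | 0 => le_rfl
  | _ + 1 => le_max_of_le_left (le_max_right _ _)

theorem card_roots_le (m d : ℕ) : ∀ (n : ℕ) (G : Type u) [Group G] [Finite G]
    (V : Type v) [AddCommGroup V] [Module K V] [FiniteDimensional K V] (ρ : G →* Module.End K V),
    Function.Injective ρ → Module.finrank K V ≤ n → (Nat.card G).factorization p ≤ m →
    (∀ a b : G, Commute a b) → ∀ Q : Polynomial K, Q.Monic → Q.natDegree ≤ d →
    Nat.card {a : G // Polynomial.aeval (ρ a) Q = 0} ≤ rootBound p m d n := by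
  intro n
  induction n with
  | zero =>
    intro G _ _ V _ _ _ ρ hρ hn _ _ Q _ _
    haveI : Subsingleton V := Module.finrank_zero_iff.1 (Nat.le_zero.1 hn)
    haveI : Subsingleton G :=
      ⟨fun a b => hρ (LinearMap.ext fun v => Subsingleton.elim _ _)⟩
    exact Nat.card_le_card_of_injective (fun _ => (0 : Fin 1))
      (fun a b _ => Subsingleton.elim a b) |>.trans (by simp [rootBound])
  | succ n ih =>
    intro G _ _ V _ _ _ ρ hρ hn hm hcomm Q hQ hQd
    classical
    rw [rootBound]
    by_cases hall : ∀ g : G, g ∈ scal ρ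
    · refine le_trans ?_ (le_max_left _ _)
      rcases subsingleton_or_nontrivial V with hV | hV
      · haveI : Subsingleton G :=
          ⟨fun a b => hρ (LinearMap.ext fun v => Subsingleton.elim _ _)⟩
        exact (Nat.card_le_card_of_injective (fun _ => (0 : Fin 1))
          (fun a b _ => Subsingleton.elim a b)).trans (by simp)
      · have hc : ∀ a : {a : G // Polynomial.aeval (ρ a) Q = 0}, ∃ c ∈ Q.roots.toFinset, ρ a.1 = c • (1 : Module.End K V) := by
          rintro ⟨a, ha⟩
          obtain ⟨c, hc⟩ := hall a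
          refine ⟨c, ?_, hc⟩
          rw [hc, ← Algebra.algebraMap_eq_smul_one, Polynomial.aeval_algebraMap_apply] at ha
          rw [Multiset.mem_toFinset, Polynomial.mem_roots hQ.ne_zero, Polynomial.IsRoot,
            ← Polynomial.coe_aeval_eq_eval]
          exact FaithfulSMul.algebraMap_injective K (Module.End K V) (by rw [ha, map_zero])
        choose c hc hρc using hc
        calc Nat.card _ ≤ Nat.card Q.roots.toFinset :=
              Nat.card_le_card_of_injective (fun a => ⟨c a, hc a⟩)
                (fun a b h => Subtype.ext (hρ (by rw [hρc a, hρc b, show c a = c b from congrArg Subtype.val h])))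
          _ ≤ max d 1 := by
            rw [Nat.card_eq_finsetCard]
            exact ((Multiset.toFinset_card_le _).trans (Q.card_roots'.trans hQd)).trans (le_max_left _ _)
    · push Not at hall
      obtain ⟨x, hx⟩ := hall
      obtain ⟨W, hW0, hW1, hWi⟩ := exists_invariant hx
      have hW : ∀ g, ∀ w ∈ W, ρ g w ∈ W := fun g => hWi g (hcomm g x)
      obtain ⟨hd1, hd2⟩ := finrank_lt hW0 hW1
      obtain ⟨-, hker⟩ := ker_facts (p := p) hρ hW hm
      refine le_trans ?_ (le_max_right _ _)
      set r1 := onSub ρ W hW with hr1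
      set r2 := onQuot ρ W hW with hr2
      let S1 := {a : G ⧸ r1.ker // Polynomial.aeval (lk r1 a) Q = 0}
      let S2 := {a : G ⧸ r2.ker // Polynomial.aeval (lk r2 a) Q = 0}
      have hcq : ∀ N : Subgroup G, ∀ [N.Normal], ∀ a b : G ⧸ N, Commute a b := by
        intro N _ a b
        obtain ⟨a, rfl⟩ := QuotientGroup.mk_surjective a
        obtain ⟨b, rfl⟩ := QuotientGroup.mk_surjective b
        exact (hcomm a b).map (QuotientGroup.mk' N)
      have hS1 : Nat.card S1 ≤ rootBound p m d n :=
        ih (G ⧸ r1.ker) W (lk r1) (lk_injective r1) (by omega)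
          ((factorization_card_le_of_dvd (Subgroup.card_quotient_dvd_card _) Nat.card_pos.ne' p).trans hm)
          (hcq _) Q hQ hQd
      have hS2 : Nat.card S2 ≤ rootBound p m d n :=
        ih (G ⧸ r2.ker) (V ⧸ W) (lk r2) (lk_injective r2) (by omega)
          ((factorization_card_le_of_dvd (Subgroup.card_quotient_dvd_card _) Nat.card_pos.ne' p).trans hm)
          (hcq _) Q hQ hQd
      let f : {a : G // Polynomial.aeval (ρ a) Q = 0} → S1 × S2 := fun a =>
        (⟨a.1, by rw [lk_mk]; exact aeval_onSub ρ hW _ Q a.2⟩,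
         ⟨a.1, by rw [lk_mk]; exact aeval_onQuot ρ hW _ Q a.2⟩)
      haveI := Fintype.ofFinite {a : G // Polynomial.aeval (ρ a) Q = 0}
      haveI := Fintype.ofFinite (S1 × S2)
      have hfib : ∀ y ∈ (Finset.univ : Finset (S1 × S2)),
          (Finset.univ.filter fun a => f a = y).card ≤ p ^ m := by
        intro y _
        by_cases he : (Finset.univ.filter fun a => f a = y).Nonempty
        · obtain ⟨a0, ha0⟩ := he
          simp only [Finset.mem_filter, Finset.mem_univ, true_and] at ha0
          refine le_trans ?_ hker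
          rw [← Nat.card_eq_finsetCard]
          refine Nat.card_le_card_of_injective (fun a => ⟨a0.1⁻¹ * a.1.1, ?_⟩) ?_
          · have ha := a.2
            simp only [Finset.mem_filter, Finset.mem_univ, true_and] at ha
            have := ha.trans ha0.symm
            simp only [f, Prod.mk.injEq, Subtype.mk.injEq] at this
            exact ⟨QuotientGroup.eq.1 (congrArg Subtype.val this.1).symm, QuotientGroup.eq.1 (congrArg Subtype.val this.2).symm⟩
          · intro a b h
            exact Subtype.ext (Subtype.ext (mul_left_cancel (congrArg Subtype.val h)))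
        · rw [Finset.not_nonempty_iff_eq_empty.1 he, Finset.card_empty]; exact Nat.zero_le _
      have h1 := Finset.card_le_mul_card_image_of_maps_to (f := f) (s := Finset.univ) (t := Finset.univ)
        (fun a _ => Finset.mem_univ _) (p ^ m) hfib
      rw [Finset.card_univ, Finset.card_univ, ← Nat.card_eq_fintype_card, ← Nat.card_eq_fintype_card,
        Nat.card_prod] at h1
      calc Nat.card _ ≤ p ^ m * (Nat.card S1 * Nat.card S2) := h1
        _ ≤ p ^ m * (rootBound p m d n * rootBound p m d n) := by gcongr
        _ = _ := mul_comm _ _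

theorem card_roots_subgroup_le {G : Type u} [Group G] [Finite G] {V : Type v} [AddCommGroup V]
    [Module K V] [FiniteDimensional K V] {ρ : G →* Module.End K V} (hρ : Function.Injective ρ)
    {n m d : ℕ} (hn : Module.finrank K V ≤ n) (hm : (Nat.card G).factorization p ≤ m) (A : Subgroup G)
    (hA : ∀ a ∈ A, ∀ b ∈ A, Commute a b) (Q : Polynomial K) (hQ : Q.Monic) (hd : Q.natDegree ≤ d) :
    Nat.card {a : A // Polynomial.aeval (ρ (a : G)) Q = 0} ≤ rootBound p m d n :=
  card_roots_le p m d n A V (ρ.comp A.subtype) (hρ.comp Subtype.val_injective) hn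
    ((factorization_card_le_of_dvd (Subgroup.card_subgroup_dvd_card A) Nat.card_pos.ne' p).trans hm)
    (fun a b => Subtype.ext (hA a a.2 b b.2)) Q hQ hd

theorem closure_commute {G : Type u} [Group G] {S : Set G} (h : ∀ a ∈ S, ∀ b ∈ S, Commute a b) :
    ∀ a ∈ Subgroup.closure S, ∀ b ∈ Subgroup.closure S, Commute a b := by
  have h1 : Subgroup.closure S ≤ Subgroup.centralizer S :=
    (Subgroup.closure_le _).2 fun a ha => Subgroup.mem_centralizer_iff.2 fun b hb => h b hb a ha
  have h2 : Subgroup.closure S ≤ Subgroup.centralizer (Subgroup.closure S : Set G) :=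
    (Subgroup.closure_le _).2 fun b hb => Subgroup.mem_centralizer_iff.2 fun a ha =>
      ((Subgroup.mem_centralizer_iff.1 (h1 ha)) b hb).symm
  exact fun a ha b hb => (Subgroup.mem_centralizer_iff.1 (h2 hb)) a ha

/-- index bound for the abelian subgroup of a centraliser -/
def centBound (m L : ℕ) : ℕ := L * L * (p ^ m) ^ (p ^ m) * p ^ m

theorem exists_abelian_centralizer {n m L : ℕ}
    (hL : ∀ (G : Type u) [Group G] [Finite G]
      (V : Type v) [AddCommGroup V] [Module K V] [FiniteDimensional K V] (ρ : G →* Module.End K V),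
      Function.Injective ρ → Module.finrank K V ≤ n → (Nat.card G).factorization p ≤ m →
      ∃ A : Subgroup G, A.Normal ∧ (∀ a ∈ A, ∀ b ∈ A, Commute a b) ∧ A.index ≤ L)
    {G : Type u} [Group G] [Finite G] {V : Type v} [AddCommGroup V] [Module K V] [FiniteDimensional K V]
    {ρ : G →* Module.End K V} (hρ : Function.Injective ρ) (hn : Module.finrank K V ≤ n + 1)
    (hm : (Nat.card G).factorization p ≤ m) {x : G} (hx : x ∉ scal ρ) :
    ∃ H : Subgroup G, H ≤ Subgroup.centralizer {x} ∧ x ∈ H ∧ scal ρ ≤ H ∧
      (∀ a ∈ H, ∀ b ∈ H, Commute a b) ∧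
      Nat.card (Subgroup.centralizer ({x} : Set G)) ≤ centBound p m L * Nat.card H := by
  classical
  obtain ⟨W, hW0, hW1, hWi⟩ := exists_invariant hx
  obtain ⟨hd1, hd2⟩ := finrank_lt hW0 hW1
  set C := Subgroup.centralizer ({x} : Set G) with hC
  set ρC := ρ.comp C.subtype with hρC
  have hρCi : Function.Injective ρC := hρ.comp Subtype.val_injective
  have hxc : ∀ g ∈ C, Commute g x := fun g hg => Subgroup.mem_centralizer_singleton_iff.1 hg
  have hW : ∀ g, ∀ w ∈ W, ρC g w ∈ W := fun g => hWi g.1 (hxc g g.2)
  have hmC : (Nat.card C).factorization p ≤ m :=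
    (factorization_card_le_of_dvd (Subgroup.card_subgroup_dvd_card C) Nat.card_pos.ne' p).trans hm
  obtain ⟨-, hker⟩ := ker_facts (p := p) hρCi hW hmC
  set r1 := onSub ρC W hW
  set r2 := onQuot ρC W hW
  obtain ⟨A1, -, hA1, hi1⟩ := hL (C ⧸ r1.ker) W (lk r1) (lk_injective r1)
    (by omega) ((factorization_card_le_of_dvd (Subgroup.card_quotient_dvd_card _) Nat.card_pos.ne' p).trans hmC)
  obtain ⟨A2, -, hA2, hi2⟩ := hL (C ⧸ r2.ker) (V ⧸ W) (lk r2) (lk_injective r2)
    (by omega) ((factorization_card_le_of_dvd (Subgroup.card_quotient_dvd_card _) Nat.card_pos.ne' p).trans hmC)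
  set N := r1.ker ⊓ r2.ker with hN
  haveI : N.Normal := inferInstance
  set D := (A1.comap (QuotientGroup.mk' r1.ker) ⊓ A2.comap (QuotientGroup.mk' r2.ker)) ⊓
    (MulAut.conjNormal (H := N)).ker with hD
  have hDi : D.index ≤ L * L * (p ^ m) ^ (p ^ m) := by
    refine (Subgroup.index_inf_le).trans (Nat.mul_le_mul ((Subgroup.index_inf_le).trans (Nat.mul_le_mul ?_ ?_)) ?_)
    · rwa [Subgroup.index_comap_of_surjective _ (QuotientGroup.mk'_surjective _)]
    · rwa [Subgroup.index_comap_of_surjective _ (QuotientGroup.mk'_surjective _)]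
    · rw [Subgroup.index_ker]
      calc Nat.card _ ≤ Nat.card (MulAut N) := Nat.card_le_card_of_injective _ Subtype.val_injective
        _ ≤ Nat.card (N → N) := Nat.card_le_card_of_injective (fun e => (e : N → N)) DFunLike.coe_injective
        _ ≤ _ := by
          rw [Nat.card_fun]
          exact (Nat.pow_le_pow_left hker _).trans
            (Nat.pow_le_pow_right (pow_pos (Fact.out (p := p.Prime)).pos m) hker)
  have hcomN : ∀ a b : D, (a : C) * b * (a : C)⁻¹ * (b : C)⁻¹ ∈ N := by
    intro a b
    obtain ⟨⟨⟨a1, a2⟩, -⟩, ⟨b1, b2⟩, -⟩ := And.intro a.2 b.2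
    refine ⟨?_, ?_⟩
    · change _ ∈ r1.ker
      rw [← QuotientGroup.eq_one_iff]
      simp only [QuotientGroup.mk_mul, QuotientGroup.mk_inv]
      have e := (hA1 _ a1 _ b1).eq
      simp only [QuotientGroup.mk'_apply] at e
      rw [e, mul_inv_cancel_right, mul_inv_cancel]
    · change _ ∈ r2.ker
      rw [← QuotientGroup.eq_one_iff]
      simp only [QuotientGroup.mk_mul, QuotientGroup.mk_inv]
      have e := (hA2 _ a2 _ b2).eq
      simp only [QuotientGroup.mk'_apply] at e
      rw [e, mul_inv_cancel_right, mul_inv_cancel]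
  have hcen : ∀ a : D, a ^ Nat.card N ∈ Subgroup.center D := by
    intro a
    rw [Subgroup.mem_center_iff]
    intro b
    set c : C := (a : C) * b * (a : C)⁻¹ * (b : C)⁻¹ with hc
    have hcN : c ∈ N := hcomN a b
    have hac : (a : C) * c * (a : C)⁻¹ = c := by
      have := congrArg Subtype.val (DFunLike.congr_fun (MonoidHom.mem_ker.1 a.2.2) (⟨c, hcN⟩ : N))
      rwa [MulAut.conjNormal_apply, MulAut.one_apply] at this
    have hj : ∀ j : ℕ, (a : C) ^ j * b = c ^ j * b * (a : C) ^ j := by
      intro j
      induction j with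
      | zero => simp
      | succ j ih =>
        have hab : (a : C) * b = c * b * a := by rw [hc]; group
        have hacj : Commute (a : C) (c ^ j) := Commute.pow_right (mul_inv_eq_iff_eq_mul.1 hac) j
        rw [pow_succ', mul_assoc, ih, ← mul_assoc, ← mul_assoc, hacj.eq, mul_assoc (c ^ j), hab,
          pow_succ c]
        group
    have h1 : c ^ Nat.card N = 1 := congrArg Subtype.val (pow_card_eq_one' (x := (⟨c, hcN⟩ : N)))
    have := hj (Nat.card N)
    rw [h1, one_mul] at this
    exact Subtype.ext (by push_cast; exact this.symm)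
  have hq : Nat.card (D ⧸ Subgroup.center D) ≤ p ^ m := by
    have hNp : ∃ i, Nat.card N = p ^ i := by
      have hp : IsPGroup p N := isPGroup_ker hρCi hW
      exact IsPGroup.iff_card.1 hp
    obtain ⟨i, hi⟩ := hNp
    have hp : IsPGroup p (D ⧸ Subgroup.center D) := fun g => by
      obtain ⟨a, rfl⟩ := QuotientGroup.mk_surjective g
      exact ⟨i, by rw [← hi, ← QuotientGroup.mk_pow, QuotientGroup.eq_one_iff]; exact hcen a⟩
    obtain ⟨j, hj⟩ := IsPGroup.iff_card.1 hp
    rw [hj]
    refine Nat.pow_le_pow_right (Fact.out (p := p.Prime)).pos (le_trans ?_ hmC)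
    exact (Nat.Prime.pow_dvd_iff_le_factorization Fact.out Nat.card_pos.ne').1
      (hj ▸ (Subgroup.card_quotient_dvd_card _).trans (Subgroup.card_subgroup_dvd_card D))
  set H0 := (Subgroup.center D).map (C.subtype.comp D.subtype) with hH0
  have hH0c : Nat.card H0 = Nat.card (Subgroup.center D) :=
    Subgroup.card_map_of_injective (Subtype.val_injective.comp Subtype.val_injective)
  have hH0C : ∀ a ∈ H0, a ∈ C := by rintro _ ⟨a, -, rfl⟩; exact a.1.2
  set S : Set G := (H0 : Set G) ∪ (scal ρ : Set G) ∪ {x} with hS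
  have hSc : ∀ a ∈ S, ∀ b ∈ S, Commute a b := by
    rintro a ((ha | ha) | ha) b ((hb | hb) | hb)
    · obtain ⟨a, ha, rfl⟩ := ha
      obtain ⟨b, hb, rfl⟩ := hb
      exact congrArg (C.subtype.comp D.subtype) (Subgroup.mem_center_iff.1 hb a)
    all_goals first
      | exact scal_commute hρ ha b
      | exact (scal_commute hρ hb a).symm
      | (cases ha; cases hb; exact Commute.refl _)
      | (cases hb; exact hxc a (hH0C a ha))
      | (cases ha; exact (hxc b (hH0C b hb)).symm)
  refine ⟨Subgroup.closure S, ?_, Subgroup.subset_closure (Or.inr rfl),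
    fun z hz => Subgroup.subset_closure (Or.inl (Or.inr hz)), closure_commute hSc, ?_⟩
  · refine (Subgroup.closure_le _).2 ?_
    exact fun a ha => Subgroup.mem_centralizer_singleton_iff.2 (hSc a ha x (Or.inr rfl))
  calc Nat.card C = Nat.card D * D.index := (Subgroup.card_mul_index D).symm
    _ = Nat.card (Subgroup.center D) * Nat.card (D ⧸ Subgroup.center D) * D.index := by
      rw [Subgroup.card_eq_card_quotient_mul_card_subgroup (Subgroup.center D), mul_comm (Nat.card (D ⧸ _))]
    _ ≤ Nat.card (Subgroup.closure S) * p ^ m * (L * L * (p ^ m) ^ (p ^ m)) := by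
      gcongr
      rw [← hH0c]
      exact Subgroup.card_le_of_le fun a ha => Subgroup.subset_closure (Or.inl (Or.inl ha))
    _ = _ := by rw [centBound]; ring

end Cfsg.Agent.Classical.BrauerFeit
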