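import Mathlib

/-!
# Jordan's classes of large abelian subgroups

A group in which every centraliser of a non-central element is virtually abelian (and in which powers
and classes are controlled inside abelian subgroups) carries canonical large abelian subgroups.
-/

set_option autoImplicit false
set_option linter.unusedSectionVars false

namespace Cfsg.Agent.Classical.BrauerFeit

universe u

variable {G : Type u} [Group G] [Finite G]

/-- the abstract hypotheses of Jordan's count -/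
structure Hyp (Z : Subgroup G) (L g t : ℕ) (f : ℕ → ℕ) : Prop where
  one_le : 1 ≤ L
  central : ∀ z ∈ Z, ∀ h : G, Commute z h
  cent : ∀ x : G, x ∉ Z → ∃ H : Subgroup G, H ≤ Subgroup.centralizer {x} ∧ x ∈ H ∧ Z ≤ H ∧
    (∀ a ∈ H, ∀ b ∈ H, Commute a b) ∧ Nat.card (Subgroup.centralizer ({x} : Set G)) ≤ L * Nat.card H
  ker : ∀ k : ℕ, 0 < k → ∀ A : Subgroup G, (∀ a ∈ A, ∀ b ∈ A, Commute a b) →
    Nat.card {a : A // (a : G) ^ k ∈ Z} ≤ f k * Nat.card Z
  conj : ∀ A : Subgroup G, (∀ a ∈ A, ∀ b ∈ A, Commute a b) → ∀ r : G,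
    Nat.card {y : A // IsConj r (y : G)} ≤ g
  trans : ∀ x : G, Nat.card {z : Z // IsConj x ((z : G) * x)} ≤ t

/-- the exponent which moves a centraliser into its abelian subgroup -/
def ee (L : ℕ) : ℕ := L.factorial

theorem ee_pos (L : ℕ) : 0 < ee L := Nat.factorial_pos L

/-- an abelian subgroup above `Z`, large enough to keep non-central powers -/
def Big (Z : Subgroup G) (L : ℕ) (f : ℕ → ℕ) (A : Subgroup G) : Prop :=
  (∀ a ∈ A, ∀ b ∈ A, Commute a b) ∧ Z ≤ A ∧ f (ee L * ee L * ee L) * Nat.card Z < Nat.card A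

/-- commensurability of large abelian subgroups -/
def Rel (L : ℕ) (A B : Subgroup G) : Prop :=
  (∀ a ∈ A, ∀ b ∈ B, Commute (a ^ ee L) (b ^ (ee L * ee L))) ∧
    (∀ a ∈ A, ∀ b ∈ B, Commute (a ^ (ee L * ee L)) (b ^ ee L))

/-- the canonical subgroup of a class -/
def Mof (Z : Subgroup G) (L : ℕ) (f : ℕ → ℕ) (A : Subgroup G) : Subgroup G :=
  Subgroup.closure ((Z : Set G) ∪ {y | ∃ B, Big Z L f B ∧ Rel L A B ∧ ∃ b ∈ B, y = b ^ (ee L * ee L)})

/-- the threshold for the centres -/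
def bound1 (L : ℕ) (f : ℕ → ℕ) : ℕ := f (ee L * ee L) * L * f (ee L * ee L * ee L) + f (ee L * ee L * ee L)

/-- the bound for the automisers -/
def nu (L g : ℕ) (f : ℕ → ℕ) : ℕ := g * L * f (ee L * ee L)

/-- the centres of the large classes -/
def IsCentre (Z : Subgroup G) (L : ℕ) (f : ℕ → ℕ) (M : Subgroup G) : Prop :=
  ∃ A, Big Z L f A ∧ bound1 L f * Nat.card Z < Nat.card A ∧ M = Mof Z L f A

/-- the elements of the normaliser with large centraliser in the centre -/
def uSet (Z : Subgroup G) (L : ℕ) (f : ℕ → ℕ) (M : Subgroup G) : Set G :=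
  {x | x ∈ Subgroup.normalizer (M : Set G) ∧
    f (ee L * ee L * ee L) * Nat.card Z < Nat.card ↥(M ⊓ Subgroup.centralizer {x})}

variable {Z : Subgroup G} {L g t : ℕ} {f : ℕ → ℕ} (h : Hyp Z L g t f)
include h

theorem card_le_relIndex {H C : Subgroup G} (hle : H ≤ C) {c : ℕ} (hc : Nat.card C ≤ c * Nat.card H) :
    H.relIndex C ≤ c := by
  have e := Subgroup.card_mul_index (H.subgroupOf C)
  rw [Nat.card_congr (Subgroup.subgroupOfEquivOfLe hle).toEquiv] at e
  exact Nat.le_of_mul_le_mul_left (by rw [Subgroup.relIndex, e, mul_comm]; exact hc) Nat.card_pos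

theorem pow_mem_of_le {H C : Subgroup G} (hle : H ≤ C) (hc : Nat.card C ≤ L * Nat.card H) {a : G}
    (ha : a ∈ C) : a ^ ee L ∈ H := by
  have hi := card_le_relIndex h hle hc
  obtain ⟨k, hk0, hk, hmem⟩ := (H.subgroupOf C).exists_pow_mem_of_index_ne_zero
    Subgroup.index_ne_zero_of_finite (⟨a, ha⟩ : C)
  have hd : k ∣ ee L := Nat.dvd_factorial hk0 (hk.trans hi)
  obtain ⟨j, hj⟩ := hd
  rw [hj, pow_mul]
  exact pow_mem (show a ^ k ∈ H by simpa [Subgroup.mem_subgroupOf] using hmem) j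

theorem comm_pow {r a b : G} (hr : r ∉ Z) (ha : Commute a r) (hb : Commute b r) :
    Commute (a ^ ee L) (b ^ ee L) := by
  obtain ⟨H, hH, -, -, hab, hc⟩ := h.cent r hr
  exact hab _ (pow_mem_of_le h hH hc (Subgroup.mem_centralizer_singleton_iff.2 ha)) _
    (pow_mem_of_le h hH hc (Subgroup.mem_centralizer_singleton_iff.2 hb))

theorem exists_pow {A : Subgroup G} (hA : Big Z L f A) :
    ∃ a ∈ A, a ^ (ee L * ee L * ee L) ∉ Z ∧ a ^ (ee L * ee L) ∉ Z ∧ a ∉ Z := by
  by_contra hc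
  have h3 : ∀ a ∈ A, a ^ (ee L * ee L * ee L) ∈ Z := by
    intro a ha
    by_contra h0
    refine hc ⟨a, ha, h0, fun h2 => h0 ?_, fun h1 => h0 (pow_mem h1 _)⟩
    rw [pow_mul]; exact pow_mem h2 _
  have := h.ker (ee L * ee L * ee L) (by have := ee_pos L; positivity) A hA.1
  have e : Nat.card {a : A // (a : G) ^ (ee L * ee L * ee L) ∈ Z} = Nat.card A :=
    Nat.card_congr (Equiv.subtypeUnivEquiv fun a => h3 a a.2)
  rw [e] at this
  exact absurd hA.2.2 (not_lt.2 this)

theorem rel_of_mem {A B : Subgroup G} (hA : ∀ a ∈ A, ∀ b ∈ A, Commute a b)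
    (hB : ∀ a ∈ B, ∀ b ∈ B, Commute a b) {r : G} (hrA : r ∈ A) (hrB : r ∈ B) (hr : r ∉ Z) : Rel L A B := by
  constructor <;> intro a ha b hb
  · rw [pow_mul b]; exact (comm_pow h hr (hA a ha r hrA) (hB b hb r hrB)).pow_right _
  · rw [pow_mul a]; exact (comm_pow h hr (hA a ha r hrA) (hB b hb r hrB)).pow_left _

theorem rel_refl {A : Subgroup G} (hA : Big Z L f A) : Rel L A A :=
  ⟨fun a ha b hb => (hA.1 a ha b hb).pow_pow _ _, fun a ha b hb => (hA.1 a ha b hb).pow_pow _ _⟩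

theorem rel_symm {A B : Subgroup G} (hR : Rel L A B) : Rel L B A :=
  ⟨fun b hb a ha => (hR.2 a ha b hb).symm, fun b hb a ha => (hR.1 a ha b hb).symm⟩

theorem rel_half {A C : Subgroup G} (hA : Big Z L f A) (hC : Big Z L f C)
    (h22 : ∀ a ∈ A, ∀ c ∈ C, Commute (a ^ (ee L * ee L)) (c ^ (ee L * ee L))) :
    ∀ a ∈ A, ∀ c ∈ C, Commute (a ^ (ee L * ee L)) (c ^ ee L) := by
  obtain ⟨a0, ha0, -, hr2, -⟩ := exists_pow h hA
  obtain ⟨c0, hc0, hr3, -, -⟩ := exists_pow h hC
  intro a ha c hc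
  have h13 : ∀ x ∈ A, Commute (x ^ ee L) (c0 ^ (ee L * ee L * ee L)) := fun x hx => by
    rw [pow_mul c0]
    exact comm_pow h hr2 ((hA.1 x hx a0 ha0).pow_right _) (h22 a0 ha0 c0 hc0).symm
  rw [pow_mul a]
  exact comm_pow h hr3 (h13 a ha) ((hC.1 c hc c0 hc0).pow_right _)

theorem rel_trans {A B C : Subgroup G} (hA : Big Z L f A) (hB : Big Z L f B) (hC : Big Z L f C)
    (h1 : Rel L A B) (h2 : Rel L B C) : Rel L A C := by
  obtain ⟨b, hb, -, hr, -⟩ := exists_pow h hB
  have h22 : ∀ a ∈ A, ∀ c ∈ C, Commute (a ^ (ee L * ee L)) (c ^ (ee L * ee L)) := fun a ha c hc => by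
    rw [pow_mul, pow_mul]
    exact comm_pow h hr (h1.1 a ha b hb) (h2.2 b hb c hc).symm
  exact ⟨fun a ha c hc => (rel_half h hC hA (fun c hc a ha => (h22 a ha c hc).symm) c hc a ha).symm,
    rel_half h hA hC h22⟩

theorem Mof_comm {A : Subgroup G} (hA : Big Z L f A) :
    ∀ a ∈ Mof Z L f A, ∀ b ∈ Mof Z L f A, Commute a b := by
  have key : ∀ S : Set G, (∀ a ∈ S, ∀ b ∈ S, Commute a b) →
      ∀ a ∈ Subgroup.closure S, ∀ b ∈ Subgroup.closure S, Commute a b := by
    intro S hS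
    have h1 : Subgroup.closure S ≤ Subgroup.centralizer S :=
      (Subgroup.closure_le _).2 fun a ha => Subgroup.mem_centralizer_iff.2 fun b hb => hS b hb a ha
    have h2 : Subgroup.closure S ≤ Subgroup.centralizer (Subgroup.closure S : Set G) :=
      (Subgroup.closure_le _).2 fun b hb => Subgroup.mem_centralizer_iff.2 fun a ha =>
        ((Subgroup.mem_centralizer_iff.1 (h1 ha)) b hb).symm
    exact fun a ha b hb => (Subgroup.mem_centralizer_iff.1 (h2 hb)) a ha
  refine key _ ?_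
  rintro a (ha | ⟨B, hB, hAB, x, hx, rfl⟩) b hb
  · exact h.central a ha b
  rcases hb with hb | ⟨C, hC, hAC, y, hy, rfl⟩
  · exact (h.central b hb _).symm
  have := (rel_trans h hB hA hC (rel_symm h hAB) hAC).1 x hx y hy
  rw [pow_mul x]
  exact this.pow_left _

theorem Z_le_Mof (A : Subgroup G) : Z ≤ Mof Z L f A :=
  fun _ hz => Subgroup.subset_closure (Or.inl hz)

theorem pow_mem_Mof {A B : Subgroup G} (hB : Big Z L f B) (hR : Rel L A B) {b : G} (hb : b ∈ B) :
    b ^ (ee L * ee L) ∈ Mof Z L f A :=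
  Subgroup.subset_closure (Or.inr ⟨B, hB, hR, b, hb, rfl⟩)

theorem Mof_eq {A B : Subgroup G} (hA : Big Z L f A) (hB : Big Z L f B) (hR : Rel L A B) :
    Mof Z L f A = Mof Z L f B := by
  have key : ∀ A B, Big Z L f A → Big Z L f B → Rel L A B → Mof Z L f A ≤ Mof Z L f B := by
    intro A B hA hB hR
    refine (Subgroup.closure_le _).2 ?_
    rintro _ (hz | ⟨C, hC, hAC, c, hc, rfl⟩)
    · exact Z_le_Mof h B hz
    · exact pow_mem_Mof h hC (rel_trans h hB hA hC (rel_symm h hR) hAC) hc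
  exact le_antisymm (key A B hA hB hR) (key B A hB hA (rel_symm h hR))

theorem card_le_of_pow {A M : Subgroup G} {k : ℕ} (hk : 0 < k) (hA : ∀ a ∈ A, ∀ b ∈ A, Commute a b)
    (hZ : Z ≤ M) (hM : ∀ a ∈ A, a ^ k ∈ M) : Nat.card A ≤ f k * Nat.card M := by
  haveI : Z.Normal := ⟨fun z hz x => by rw [← (h.central z hz x).eq, mul_inv_cancel_right]; exact hz⟩
  let φ : A →* M ⧸ Z.subgroupOf M :=
    { toFun := fun a => QuotientGroup.mk ⟨(a : G) ^ k, hM a a.2⟩
      map_one' := by
        rw [QuotientGroup.eq_one_iff]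
        simp [Subgroup.mem_subgroupOf]
      map_mul' := fun a b => by
        rw [← QuotientGroup.mk_mul]
        exact congrArg QuotientGroup.mk (Subtype.ext ((hA a a.2 b b.2).mul_pow k)) }
  have h1 : Nat.card φ.ker ≤ f k * Nat.card Z := by
    refine le_trans (le_of_eq (Nat.card_congr (Equiv.subtypeEquivRight fun a => ?_))) (h.ker k hk A hA)
    rw [MonoidHom.mem_ker]
    exact (QuotientGroup.eq_one_iff _).trans Subgroup.mem_subgroupOf
  have h2 : Nat.card φ.range ≤ Nat.card (M ⧸ Z.subgroupOf M) := Subgroup.card_le_card_group _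
  have h3 : Nat.card (Z.subgroupOf M) = Nat.card Z := Nat.card_congr (Subgroup.subgroupOfEquivOfLe hZ).toEquiv
  calc Nat.card A = Nat.card φ.ker * φ.ker.index := (Subgroup.card_mul_index _).symm
    _ ≤ f k * Nat.card Z * Nat.card (M ⧸ Z.subgroupOf M) := by
      rw [Subgroup.index_ker]; exact Nat.mul_le_mul h1 h2
    _ = f k * Nat.card M := by
      rw [Subgroup.card_eq_card_quotient_mul_card_subgroup (Z.subgroupOf M), h3]; ring

theorem centre_big {M : Subgroup G} (hM : IsCentre Z L f M) :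
    Big Z L f M ∧ L * (f (ee L * ee L * ee L) * Nat.card Z) < Nat.card M ∧ Mof Z L f M = M := by
  obtain ⟨A, hA, hA1, rfl⟩ := hM
  have h1 := card_le_of_pow h (Nat.mul_pos (ee_pos L) (ee_pos L)) hA.1 (Z_le_Mof h A)
    (fun a ha => pow_mem_Mof h hA (rel_refl h hA) ha)
  have h2 : L * (f (ee L * ee L * ee L) * Nat.card Z) < Nat.card (Mof Z L f A) := by
    by_contra hc
    rw [not_lt] at hc
    have := Nat.mul_le_mul_left (f (ee L * ee L)) hc
    rw [bound1, add_mul] at hA1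
    nlinarith
  have hbig : Big Z L f (Mof Z L f A) :=
    ⟨Mof_comm h hA, Z_le_Mof h A, lt_of_le_of_lt (Nat.le_mul_of_pos_left _ h.one_le) h2⟩
  refine ⟨hbig, h2, ?_⟩
  obtain ⟨a, ha, -, ha2, -⟩ := exists_pow h hA
  exact (Mof_eq h hA hbig (rel_of_mem h hA.1 hbig.1 (pow_mem ha _)
    (pow_mem_Mof h hA (rel_refl h hA) ha) ha2)).symm

theorem Mof_map (x : G) (A : Subgroup G) :
    (Mof Z L f A).map (MulAut.conj x).toMonoidHom = Mof Z L f (A.map (MulAut.conj x).toMonoidHom) := by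
  have hz : ∀ (x : G), ∀ z ∈ Z, x * z * x⁻¹ = z := fun x z hz => by
    rw [← (h.central z hz x).eq, mul_inv_cancel_right]
  have hbig : ∀ (x : G) (B : Subgroup G), Big Z L f B → Big Z L f (B.map (MulAut.conj x).toMonoidHom) := by
    intro x B hB
    refine ⟨?_, fun z hz' => ⟨z, hB.2.1 hz', hz x z hz'⟩, ?_⟩
    · rintro _ ⟨a, ha, rfl⟩ _ ⟨b, hb, rfl⟩
      exact (hB.1 a ha b hb).map _
    · rw [Subgroup.card_map_of_injective (MulAut.conj x).injective]; exact hB.2.2
  have key : ∀ (x : G) (A : Subgroup G),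
      (Mof Z L f A).map (MulAut.conj x).toMonoidHom ≤ Mof Z L f (A.map (MulAut.conj x).toMonoidHom) := by
    intro x A
    rw [Mof, MonoidHom.map_closure, Subgroup.closure_le]
    rintro _ ⟨y, hy | ⟨B, hB, hR, b, hb, rfl⟩, rfl⟩
    · exact Subgroup.subset_closure (Or.inl (show x * y * x⁻¹ ∈ Z by rw [hz x y hy]; exact hy))
    · rw [map_pow]
      refine pow_mem_Mof h (hbig x B hB) ⟨?_, ?_⟩ (Subgroup.mem_map_of_mem _ hb)
      · rintro _ ⟨a, ha, rfl⟩ _ ⟨c, hc, rfl⟩
        rw [← map_pow, ← map_pow]; exact (hR.1 a ha c hc).map _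
      · rintro _ ⟨a, ha, rfl⟩ _ ⟨c, hc, rfl⟩
        rw [← map_pow, ← map_pow]; exact (hR.2 a ha c hc).map _
  refine le_antisymm (key x A) ?_
  intro y hy
  have := key x⁻¹ _ (Subgroup.mem_map_of_mem (MulAut.conj x⁻¹).toMonoidHom hy)
  have e : (A.map (MulAut.conj x).toMonoidHom).map (MulAut.conj x⁻¹).toMonoidHom = A := by
    rw [Subgroup.map_map]
    have e2 : (MulAut.conj x⁻¹).toMonoidHom.comp (MulAut.conj x).toMonoidHom = MonoidHom.id G :=
      MonoidHom.ext fun a => by simp [MulAut.conj_apply, mul_assoc]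
    rw [e2, Subgroup.map_id]
  rw [e] at this
  exact ⟨_, this, by simp [MulAut.conj_apply, mul_assoc]⟩

theorem centre_map {M : Subgroup G} (hM : IsCentre Z L f M) (x : G) :
    IsCentre Z L f (M.map (MulAut.conj x).toMonoidHom) := by
  obtain ⟨A, hA, hA1, rfl⟩ := hM
  refine ⟨A.map (MulAut.conj x).toMonoidHom, ⟨?_, fun z hz => ⟨z, hA.2.1 hz, ?_⟩, ?_⟩, ?_, Mof_map h x A⟩
  · rintro _ ⟨a, ha, rfl⟩ _ ⟨b, hb, rfl⟩
    exact (hA.1 a ha b hb).map _
  · show x * z * x⁻¹ = z
    rw [← (h.central z hz x).eq, mul_inv_cancel_right]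
  · rw [Subgroup.card_map_of_injective (MulAut.conj x).injective]; exact hA.2.2
  · rwa [Subgroup.card_map_of_injective (MulAut.conj x).injective]

theorem le_normalizer {A : Subgroup G} (hA : Big Z L f A) :
    A ≤ Subgroup.normalizer (Mof Z L f A : Set G) := by
  intro a ha
  have e : A.map (MulAut.conj a).toMonoidHom = A := by
    ext y
    constructor
    · rintro ⟨b, hb, rfl⟩; exact mul_mem (mul_mem ha hb) (inv_mem ha)
    · exact fun hy => ⟨y, hy, by
        show a * y * a⁻¹ = y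
        rw [(hA.1 a ha y hy).eq, mul_inv_cancel_right]⟩
  have e2 := Mof_map h a A
  rw [e] at e2
  rw [Subgroup.mem_normalizer_iff]
  intro y
  refine ⟨fun hy => e2 ▸ Subgroup.mem_map_of_mem _ hy, fun hy => ?_⟩
  rw [← e2] at hy
  obtain ⟨z, hz, hzy⟩ := hy
  rwa [show y = z from (MulAut.conj a).injective hzy.symm]

theorem card_normalizer_le {M : Subgroup G} (hM : IsCentre Z L f M) :
    Nat.card (Subgroup.normalizer (M : Set G)) ≤ nu L g f * Nat.card M := by
  classical
  obtain ⟨hB, hlt, hself⟩ := centre_big h hM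
  obtain ⟨r, hrM, -, -, hr⟩ := exists_pow h hB
  set N := Subgroup.normalizer (M : Set G)
  haveI := Fintype.ofFinite N
  haveI := Fintype.ofFinite {y : M // IsConj r (y : G)}
  obtain ⟨H, hH, hrH, hZH, hHc, hHcard⟩ := h.cent r hr
  let orb : N → {y : M // IsConj r (y : G)} := fun x =>
    ⟨⟨(x : G) * r * (x : G)⁻¹, (Subgroup.mem_normalizer_iff.1 x.2 r).1 hrM⟩, isConj_iff.2 ⟨x, rfl⟩⟩
  have hfib : ∀ y ∈ (Finset.univ : Finset {y : M // IsConj r (y : G)}),
      (Finset.univ.filter fun x => orb x = y).card ≤ Nat.card ↥(Subgroup.centralizer {r} ⊓ N) := by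
    intro y _
    by_cases he : (Finset.univ.filter fun x => orb x = y).Nonempty
    · obtain ⟨x0, hx0⟩ := he
      simp only [Finset.mem_filter, Finset.mem_univ, true_and] at hx0
      rw [← Nat.card_eq_finsetCard]
      refine Nat.card_le_card_of_injective
        (fun x => ⟨(x0 : G)⁻¹ * (x.1 : G), Subgroup.mem_inf.2 ⟨?_, mul_mem (inv_mem x0.2) x.1.2⟩⟩) ?_
      · have hx := x.2
        simp only [Finset.mem_filter, Finset.mem_univ, true_and] at hx
        have := congrArg (fun y : {y : M // IsConj r (y : G)} => ((y.1 : M) : G)) (hx.trans hx0.symm)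
        simp only [orb] at this
        rw [Subgroup.mem_centralizer_singleton_iff]
        rw [mul_inv_eq_iff_eq_mul] at this
        rw [mul_assoc, this]
        group
      · intro a b hab
        exact Subtype.ext (Subtype.ext (mul_left_cancel (congrArg Subtype.val hab)))
    · rw [Finset.not_nonempty_iff_eq_empty.1 he, Finset.card_empty]; exact Nat.zero_le _
  have h1 := Finset.card_le_mul_card_image_of_maps_to (f := orb) (s := Finset.univ) (t := Finset.univ)
    (fun a _ => Finset.mem_univ _) _ hfib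
  rw [Finset.card_univ, Finset.card_univ, ← Nat.card_eq_fintype_card, ← Nat.card_eq_fintype_card] at h1
  set H' := H ⊓ N with hH'
  have hMC : M ≤ Subgroup.centralizer {r} ⊓ N :=
    le_inf (fun m hm => Subgroup.mem_centralizer_singleton_iff.2 (hB.1 m hm r hrM)) Subgroup.le_normalizer
  have h2 : Nat.card ↥(Subgroup.centralizer {r} ⊓ N) ≤ L * Nat.card H' := by
    have e := Subgroup.card_mul_index (H.subgroupOf (Subgroup.centralizer {r} ⊓ N))
    rw [← e, mul_comm L]
    refine Nat.mul_le_mul (le_of_eq ?_) ((Subgroup.relIndex_le_of_le_right inf_le_left ?_).trans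
      (card_le_relIndex h hH hHcard))
    · rw [← Subgroup.inf_subgroupOf_right, ← inf_assoc, inf_of_le_left hH]
      exact Nat.card_congr (Subgroup.subgroupOfEquivOfLe (le_inf (inf_le_left.trans hH) inf_le_right)).toEquiv
    · exact Subgroup.index_ne_zero_of_finite
  have hH'big : Big Z L f H' := by
    refine ⟨fun a ha b hb => hHc a ha.1 b hb.1, le_inf hZH (hB.2.1.trans Subgroup.le_normalizer), ?_⟩
    refine Nat.lt_of_mul_lt_mul_left (a := L) (lt_of_lt_of_le hlt ?_)
    exact (Subgroup.card_le_of_le hMC).trans h2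
  have hR : Rel L M H' := rel_of_mem h hB.1 hH'big.1 hrM ⟨hrH, Subgroup.le_normalizer hrM⟩ hr
  have h3 := card_le_of_pow h (Nat.mul_pos (ee_pos L) (ee_pos L)) hH'big.1 hB.2.1
    (fun a ha => hself ▸ pow_mem_Mof h hH'big hR ha)
  calc Nat.card N ≤ Nat.card ↥(Subgroup.centralizer {r} ⊓ N) * g :=
        h1.trans (Nat.mul_le_mul_left _ (h.conj M hB.1 r))
    _ ≤ L * (f (ee L * ee L) * Nat.card M) * g :=
        Nat.mul_le_mul_right _ (h2.trans (Nat.mul_le_mul_left _ h3))
    _ = _ := by rw [nu]; ring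

theorem uSet_unique {M M' : Subgroup G} (hM : IsCentre Z L f M) (hM' : IsCentre Z L f M') {x : G} (hx : x ∉ Z)
    (h1 : x ∈ uSet Z L f M) (h2 : x ∈ uSet Z L f M') : M = M' := by
  have key : ∀ M, IsCentre Z L f M → x ∈ uSet Z L f M →
      ∃ A, Big Z L f A ∧ x ∈ A ∧ Mof Z L f A = M := by
    intro M hM hxM
    obtain ⟨hB, -, hself⟩ := centre_big h hM
    set A := Subgroup.closure (((M ⊓ Subgroup.centralizer {x} : Subgroup G) : Set G) ∪ {x})
    have hle : M ⊓ Subgroup.centralizer {x} ≤ A := fun a ha => Subgroup.subset_closure (Or.inl ha)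
    have hS : ∀ a ∈ ((M ⊓ Subgroup.centralizer {x} : Subgroup G) : Set G) ∪ {x},
        ∀ b ∈ ((M ⊓ Subgroup.centralizer {x} : Subgroup G) : Set G) ∪ {x}, Commute a b := by
      rintro a (ha | rfl) b (hb | rfl)
      · exact hB.1 a ha.1 b hb.1
      · exact Subgroup.mem_centralizer_singleton_iff.1 ha.2
      · exact (Subgroup.mem_centralizer_singleton_iff.1 hb.2 : Commute b a).symm
      · exact Commute.refl _
    have hA : Big Z L f A := by
      refine ⟨?_, fun z hz => hle ⟨hB.2.1 hz, Subgroup.mem_centralizer_singleton_iff.2 (h.central z hz x)⟩,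
        lt_of_lt_of_le hxM.2 (Subgroup.card_le_of_le hle)⟩
      have h1 : A ≤ Subgroup.centralizer (((M ⊓ Subgroup.centralizer {x} : Subgroup G) : Set G) ∪ {x}) :=
        (Subgroup.closure_le _).2 fun a ha => Subgroup.mem_centralizer_iff.2 fun b hb => hS b hb a ha
      have h2 : A ≤ Subgroup.centralizer (A : Set G) :=
        (Subgroup.closure_le _).2 fun b hb => Subgroup.mem_centralizer_iff.2 fun a ha =>
          ((Subgroup.mem_centralizer_iff.1 (h1 ha)) b hb).symm
      exact fun a ha b hb => (Subgroup.mem_centralizer_iff.1 (h2 hb)) a ha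
    obtain ⟨r, hr, -, -, hrZ⟩ := exists_pow h (A := M ⊓ Subgroup.centralizer {x})
      ⟨fun a ha b hb => hB.1 a ha.1 b hb.1,
        le_inf hB.2.1 (fun z hz => Subgroup.mem_centralizer_singleton_iff.2 (h.central z hz x)), hxM.2⟩
    refine ⟨A, hA, Subgroup.subset_closure (Or.inr rfl), ?_⟩
    rw [Mof_eq h hA hB (rel_of_mem h hA.1 hB.1 (hle hr) hr.1 hrZ), hself]
  obtain ⟨A, hA, hxA, rfl⟩ := key M hM h1
  obtain ⟨A', hA', hxA', rfl⟩ := key M' hM' h2
  exact Mof_eq h hA hA' (rel_of_mem h hA.1 hA'.1 hxA hxA' hx)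

theorem small_centralizer {x : G} (hx : x ∉ Z) (hS : ∀ M, IsCentre Z L f M → x ∉ uSet Z L f M) :
    Nat.card (Subgroup.centralizer ({x} : Set G)) ≤ L * bound1 L f * Nat.card Z := by
  obtain ⟨H, hH, hxH, hZH, hHc, hHcard⟩ := h.cent x hx
  rw [mul_assoc]
  refine hHcard.trans (Nat.mul_le_mul_left _ ?_)
  by_contra hc
  rw [not_le] at hc
  have hHbig : Big Z L f H := ⟨hHc, hZH, lt_of_le_of_lt (Nat.mul_le_mul_right _ (Nat.le_add_left _ _)) hc⟩
  have hM : IsCentre Z L f (Mof Z L f H) := ⟨H, hHbig, hc, rfl⟩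
  refine hS _ hM ⟨le_normalizer h hHbig hxH, ?_⟩
  have h1 := card_le_of_pow h (Nat.mul_pos (ee_pos L) (ee_pos L)) hHc
    (M := Mof Z L f H ⊓ Subgroup.centralizer {x})
    (le_inf (Z_le_Mof h H) (fun z hz => Subgroup.mem_centralizer_singleton_iff.2 (h.central z hz x)))
    (fun a ha => ⟨pow_mem_Mof h hHbig (rel_refl h hHbig) ha, pow_mem (hH ha) _⟩)
  refine Nat.lt_of_mul_lt_mul_left (a := f (ee L * ee L)) (lt_of_lt_of_le (lt_of_le_of_lt ?_ hc) h1)
  rw [bound1, ← mul_assoc]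
  exact Nat.mul_le_mul_right _ (le_add_of_le_left
    (Nat.mul_le_mul_right _ (Nat.le_mul_of_pos_right _ h.one_le)))

end Cfsg.Agent.Classical.BrauerFeit
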