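import Mathlib
import Cfsg.Agent.Lib.Classical.BrauerFeit.Classes

/-!
# Jordan's count

A group satisfying the hypotheses `Hyp` has a normal abelian subgroup of bounded index.
-/

set_option autoImplicit false
set_option linter.unusedSectionVars false

namespace Cfsg.Agent.Classical.BrauerFeit

universe u

/-- the arithmetical lemma: `1/g = J/F + Σ 1/nᵢ` with all `nᵢ < g` bounds `g` -/
theorem unit_fractions : ∀ k F : ℕ, 0 < F → ∃ B : ℕ, ∀ (g : ℕ) (ns : Multiset ℕ) (J : ℤ),
    Multiset.card ns ≤ k → (∀ n ∈ ns, 0 < n ∧ n < g) → 0 < g →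
    (1 : ℚ) / g = J / F + (ns.map fun n : ℕ => (1 : ℚ) / n).sum → g ≤ B := by
  intro k
  induction k with
  | zero =>
    intro F hF
    refine ⟨F, fun g ns J hk _ hg he => ?_⟩
    rw [Multiset.card_eq_zero.1 (Nat.le_zero.1 hk)] at he
    simp only [Multiset.map_zero, Multiset.sum_zero, add_zero] at he
    rw [div_eq_div_iff (by positivity) (by positivity), one_mul] at he
    have hJ : 1 ≤ J := by
      by_contra h
      have h0 : J * (g : ℤ) ≤ 0 := mul_nonpos_of_nonpos_of_nonneg (by omega) (by positivity)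
      have : ((F : ℤ) : ℚ) = ((J * g : ℤ) : ℚ) := by push_cast; exact he
      have := Int.cast_injective this
      have : (0 : ℤ) < F := by exact_mod_cast hF
      linarith
    have : (g : ℚ) ≤ F := by
      rw [he]
      exact le_mul_of_one_le_left (by positivity) (by exact_mod_cast hJ)
    exact_mod_cast this
  | succ k ih =>
    intro F hF
    choose B hB using fun n : ℕ => ih (F * (n + 1)) (by positivity)
    refine ⟨max F ((Finset.range ((k + 1) * F + 1)).sup B), fun g ns J hk hns hg he => ?_⟩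
    have hsum0 : 0 ≤ (ns.map fun n : ℕ => (1 : ℚ) / n).sum :=
      Multiset.sum_nonneg fun x hx => by
        obtain ⟨n, -, rfl⟩ := Multiset.mem_map.1 hx
        positivity
    rcases lt_trichotomy J 0 with hJ | hJ | hJ
    · refine le_max_of_le_right ?_
      obtain ⟨n, hn, hn2⟩ : ∃ n ∈ ns, n ≤ (k + 1) * F := by
        by_contra hc
        push Not at hc
        have h1 : (ns.map fun n : ℕ => (1 : ℚ) / n).sum ≤ (Multiset.card ns : ℚ) * (1 / ((k + 1) * F : ℕ)) := by
          have := Multiset.sum_le_card_nsmul (ns.map fun n : ℕ => (1 : ℚ) / n) ((1 : ℚ) / ((k + 1) * F : ℕ))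
            (fun x hx => by
              obtain ⟨n, hn, rfl⟩ := Multiset.mem_map.1 hx
              exact one_div_le_one_div_of_le (by positivity) (by exact_mod_cast (hc n hn).le))
          rwa [Multiset.card_map, nsmul_eq_mul] at this
        have h2 : (Multiset.card ns : ℚ) * (1 / ((k + 1) * F : ℕ)) ≤ 1 / F := by
          rw [mul_one_div, div_le_div_iff₀ (by positivity) (by positivity), one_mul]
          push_cast
          exact mul_le_mul_of_nonneg_right (by exact_mod_cast hk) (by positivity)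
        have h3 : (J : ℚ) / F ≤ -1 / F :=
          div_le_div_of_nonneg_right (by exact_mod_cast (show J ≤ -1 by omega)) (by positivity)
        have h4 : (0 : ℚ) < 1 / g := by positivity
        rw [neg_div] at h3
        linarith
      obtain ⟨hn0, -⟩ := hns n hn
      have hg' : g ≤ B (n - 1) := by
        refine hB (n - 1) g (ns.erase n) (J * n + F) ?_ (fun m hm => hns m (Multiset.mem_of_mem_erase hm)) hg ?_
        · rw [Multiset.card_erase_of_mem hn, Nat.pred_eq_sub_one]; omega
        · rw [he, show n - 1 + 1 = n by omega]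
          conv_lhs => rw [← Multiset.cons_erase hn, Multiset.map_cons, Multiset.sum_cons]
          push_cast
          have : (n : ℚ) ≠ 0 := by positivity
          have : (F : ℚ) ≠ 0 := by positivity
          field_simp
          ring
      exact hg'.trans (Finset.le_sup (f := B) (Finset.mem_range.2 (by omega)))
    · exfalso
      subst hJ
      rw [Int.cast_zero, zero_div, zero_add] at he
      rcases Multiset.empty_or_exists_mem ns with rfl | ⟨n, hn⟩
      · simp at he; omega
      · obtain ⟨hn0, hng⟩ := hns n hn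
        have h1 : (1 : ℚ) / n ≤ (ns.map fun n : ℕ => (1 : ℚ) / n).sum :=
          Multiset.single_le_sum (fun x hx => by
            obtain ⟨m, -, rfl⟩ := Multiset.mem_map.1 hx
            positivity) _ (Multiset.mem_map_of_mem _ hn)
        have h2 : (1 : ℚ) / g < 1 / n := one_div_lt_one_div_of_lt (by positivity) (by exact_mod_cast hng)
        linarith
    · refine le_max_of_le_left ?_
      have h3 : (1 : ℚ) / F ≤ J / F :=
        div_le_div_of_nonneg_right (by exact_mod_cast hJ) (by positivity)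
      have h4 : (1 : ℚ) / F ≤ 1 / g := by linarith
      exact_mod_cast (one_div_le_one_div (by positivity) (by positivity)).1 h4

variable {G : Type u} [Group G] [Finite G] {Z : Subgroup G} {L g t : ℕ} {f : ℕ → ℕ}

theorem card_image_mul [Fintype G] {β : Type*} [DecidableEq β] (φ : G → β) (D : Subgroup G)
    (hφ : ∀ a b, φ a = φ b ↔ a⁻¹ * b ∈ D) : (Finset.univ.image φ).card * Nat.card D = Nat.card G := by
  classical
  rw [Nat.card_eq_fintype_card (α := G), ← Finset.card_univ,
    Finset.card_eq_sum_card_image φ Finset.univ, Finset.sum_const_nat (m := Nat.card D)]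
  intro y hy
  obtain ⟨a, -, rfl⟩ := Finset.mem_image.1 hy
  rw [← Nat.card_eq_finsetCard]
  refine Nat.card_congr ⟨fun x => ⟨a⁻¹ * x.1, (hφ _ _).1 (Finset.mem_filter.1 x.2).2.symm⟩,
    fun d => ⟨a * d.1, Finset.mem_filter.2 ⟨Finset.mem_univ _, ((hφ _ _).2 (by simp)).symm⟩⟩,
    fun x => by simp, fun d => by simp⟩

variable (h : Hyp Z L g t f)
include h

theorem card_conj_mul [Fintype G] [DecidableEq (Subgroup G)] (M : Subgroup G) :
    (Finset.univ.image fun x : G => M.map (MulAut.conj x).toMonoidHom).card *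
      Nat.card (Subgroup.normalizer (M : Set G)) = Nat.card G := by
  refine card_image_mul _ _ fun a b => ?_
  have hc : ∀ a b : G, (M.map (MulAut.conj b).toMonoidHom).map (MulAut.conj a).toMonoidHom =
      M.map (MulAut.conj (a * b)).toMonoidHom := fun a b => by
    rw [Subgroup.map_map]; congr 1; ext y; simp [MulAut.conj_apply, mul_assoc]
  have hn : ∀ a : G, a ∈ Subgroup.normalizer (M : Set G) ↔ M.map (MulAut.conj a).toMonoidHom = M := by
    intro a
    rw [Subgroup.mem_normalizer_iff]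
    constructor
    · intro hy
      ext y
      constructor
      · rintro ⟨z, hz, rfl⟩; exact (hy z).1 hz
      · intro hm
        refine ⟨a⁻¹ * y * a, (hy _).2 ?_, by simp [MulAut.conj_apply, mul_assoc]⟩
        simpa [mul_assoc] using hm
    · intro e y
      refine ⟨fun hy => e ▸ Subgroup.mem_map_of_mem _ hy, fun hy => ?_⟩
      rw [← e] at hy
      obtain ⟨z, hz, hzy⟩ := hy
      rwa [show y = z from (MulAut.conj a).injective hzy.symm]
  rw [hn]
  constructor
  · intro e
    rw [← hc, ← e, hc, inv_mul_cancel]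
    ext y; simp
  · intro e
    show M.map _ = M.map _
    conv_lhs => rw [← e]
    rw [hc, mul_inv_cancel_left]

theorem uSet_mul {M : Subgroup G} (hM : IsCentre Z L f M) {x m : G} (hx : x ∈ uSet Z L f M) (hm : m ∈ M) :
    x * m ∈ uSet Z L f M := by
  obtain ⟨hB, -, -⟩ := centre_big h hM
  refine ⟨mul_mem hx.1 (Subgroup.le_normalizer hm), ?_⟩
  refine lt_of_lt_of_le hx.2 (Subgroup.card_le_of_le fun a ha => Subgroup.mem_inf.2 ⟨ha.1, ?_⟩)
  rw [Subgroup.mem_centralizer_singleton_iff]
  exact (Commute.mul_right (show Commute a x from Subgroup.mem_centralizer_singleton_iff.1 ha.2) (hB.1 a ha.1 m hm)).eq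

theorem self_subset_uSet {M : Subgroup G} (hM : IsCentre Z L f M) {m : G} (hm : m ∈ M) :
    m ∈ uSet Z L f M := by
  obtain ⟨hB, -, -⟩ := centre_big h hM
  refine ⟨Subgroup.le_normalizer hm, lt_of_lt_of_le hB.2.2 (Subgroup.card_le_of_le fun a ha =>
    Subgroup.mem_inf.2 ⟨ha, Subgroup.mem_centralizer_singleton_iff.2 (hB.1 a ha m hm)⟩)⟩

theorem uSet_conj {M : Subgroup G} {x : G} (hx : x ∈ uSet Z L f M) (a : G) :
    a * x * a⁻¹ ∈ uSet Z L f (M.map (MulAut.conj a).toMonoidHom) := by
  refine ⟨?_, lt_of_lt_of_le hx.2 ?_⟩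
  · rw [Subgroup.mem_normalizer_iff]
    intro y
    have := Subgroup.mem_normalizer_iff.1 hx.1 (a⁻¹ * y * a)
    have e : ∀ w, w ∈ M.map (MulAut.conj a).toMonoidHom ↔ a⁻¹ * w * a ∈ M := fun w => by
      constructor
      · rintro ⟨z, hz, rfl⟩
        simpa [MulAut.conj_apply, mul_assoc] using hz
      · exact fun hw => ⟨_, hw, by simp [MulAut.conj_apply, mul_assoc]⟩
    rw [e, e, this, show a⁻¹ * (a * x * a⁻¹ * y * (a * x * a⁻¹)⁻¹) * a = x * (a⁻¹ * y * a) * x⁻¹ by group]
  · rw [← Subgroup.card_map_of_injective (K := M ⊓ Subgroup.centralizer {x})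
      (f := (MulAut.conj a).toMonoidHom) (MulAut.conj a).injective]
    refine Subgroup.card_le_of_le ?_
    rintro _ ⟨y, hy, rfl⟩
    refine Subgroup.mem_inf.2 ⟨Subgroup.mem_map_of_mem _ hy.1, Subgroup.mem_centralizer_singleton_iff.2 ?_⟩
    exact ((show Commute y x from Subgroup.mem_centralizer_singleton_iff.1 hy.2).map (MulAut.conj a)).eq

/-- the elements outside all classes -/
def smallSet (Z : Subgroup G) (L : ℕ) (f : ℕ → ℕ) : Set G :=
  {x | x ∉ Z ∧ ∀ M, IsCentre Z L f M → x ∉ uSet Z L f M}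

theorem small_mul {x : G} (hx : x ∈ smallSet Z L f) {z : G} (hz : z ∈ Z) (a : G) :
    z * (a * x * a⁻¹) ∈ smallSet Z L f := by
  have hc : a * x * a⁻¹ ∈ smallSet Z L f := by
    refine ⟨fun h0 => hx.1 ?_, fun M hM hxM => ?_⟩
    · rw [show x = a⁻¹ * (a * x * a⁻¹) * a by group, mul_assoc, (h.central _ h0 a).eq, inv_mul_cancel_left]
      exact h0
    · have := uSet_conj h hxM a⁻¹
      rw [show a⁻¹ * (a * x * a⁻¹) * a⁻¹⁻¹ = x by group] at this
      exact hx.2 _ (centre_map h hM a⁻¹) this
  refine ⟨fun h0 => hc.1 ((Subgroup.mul_mem_cancel_left Z hz).1 h0), fun M hM hxM => hc.2 M hM ?_⟩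
  obtain ⟨hB, -, -⟩ := centre_big h hM
  have := uSet_mul h hM hxM (inv_mem (hB.2.1 hz))
  rwa [(h.central z hz _).eq, mul_inv_cancel_right] at this

theorem dvd_small [Fintype G] [DecidableEq G] [DecidablePred (· ∈ smallSet Z L f)] :
    Nat.card G ∣ (Finset.univ.filter (· ∈ smallSet Z L f)).card * (t * (L * bound1 L f)).factorial := by
  classical
  set κ : G → Finset G := fun x =>
    Finset.univ.image fun p : G × Z => (p.2 : G) * (p.1 * x * p.1⁻¹) with hκ
  have hself : ∀ x, x ∈ κ x := fun x => Finset.mem_image.2 ⟨(1, 1), Finset.mem_univ _, by simp⟩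
  have hsub : ∀ x, ∀ y ∈ κ x, κ y ⊆ κ x := by
    intro x y hy z hz
    obtain ⟨⟨a, s⟩, -, rfl⟩ := Finset.mem_image.1 hy
    obtain ⟨⟨b, r⟩, -, rfl⟩ := Finset.mem_image.1 hz
    refine Finset.mem_image.2 ⟨(b * a, r * s), Finset.mem_univ _, ?_⟩
    have e := (h.central _ s.2 b).eq
    calc ((r * s : Z) : G) * (b * a * x * (b * a)⁻¹) = r * ((s : G) * b) * (a * x * a⁻¹) * b⁻¹ := by
          push_cast; group
      _ = r * (b * (s : G)) * (a * x * a⁻¹) * b⁻¹ := by rw [e]
      _ = _ := by group
  have heq : ∀ x, ∀ y ∈ κ x, κ y = κ x := by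
    intro x y hy
    refine Finset.Subset.antisymm (hsub x y hy) (hsub y x ?_)
    obtain ⟨⟨a, s⟩, -, rfl⟩ := Finset.mem_image.1 hy
    refine Finset.mem_image.2 ⟨(a⁻¹, s⁻¹), Finset.mem_univ _, ?_⟩
    have e := (h.central _ s.2 a⁻¹).eq
    calc ((s⁻¹ : Z) : G) * (a⁻¹ * ((s : G) * (a * x * a⁻¹)) * a⁻¹⁻¹)
        = (s : G)⁻¹ * (a⁻¹ * (s : G)) * (a * x * a⁻¹) * a := by push_cast; group
      _ = (s : G)⁻¹ * ((s : G) * a⁻¹) * (a * x * a⁻¹) * a := by rw [e]
      _ = _ := by group
  rw [Finset.card_eq_sum_card_image κ, Finset.sum_mul]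
  refine Finset.dvd_sum fun y hy => ?_
  obtain ⟨x, hx, rfl⟩ := Finset.mem_image.1 hy
  rw [Finset.mem_filter] at hx
  have hfib : (Finset.univ.filter (· ∈ smallSet Z L f)).filter (fun a => κ a = κ x) = κ x := by
    ext y
    simp only [Finset.mem_filter, Finset.mem_univ, true_and]
    refine ⟨fun hy => hy.2 ▸ hself y, fun hy => ⟨?_, heq x y hy⟩⟩
    obtain ⟨⟨a, s⟩, -, rfl⟩ := Finset.mem_image.1 hy
    exact small_mul h hx.2 s.2 a
  rw [hfib]
  -- the stabiliser
  let D : Subgroup G :=
    { carrier := {a | ∃ z : Z, a * x * a⁻¹ = (z : G) * x}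
      one_mem' := ⟨1, by simp⟩
      mul_mem' := by
        rintro a b ⟨z, hz⟩ ⟨w, hw⟩
        refine ⟨w * z, ?_⟩
        have e := (h.central _ w.2 a).eq
        calc a * b * x * (a * b)⁻¹ = a * (b * x * b⁻¹) * a⁻¹ := by group
          _ = ((w : G) * a) * x * a⁻¹ := by rw [hw, e]; group
          _ = (w : G) * (a * x * a⁻¹) := by group
          _ = _ := by rw [hz, Subgroup.coe_mul, mul_assoc]
      inv_mem' := by
        rintro a ⟨z, hz⟩
        refine ⟨z⁻¹, ?_⟩
        have e := (h.central _ z.2 a).eq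
        have e2 : x = (z : G)⁻¹ * (a * x * a⁻¹) := by rw [hz, inv_mul_cancel_left]
        calc a⁻¹ * x * a⁻¹⁻¹ = a⁻¹ * ((z : G)⁻¹ * (a * x * a⁻¹)) * a := by rw [← e2, inv_inv]
          _ = ((z : G) * a)⁻¹ * (a * x * a⁻¹) * a := by group
          _ = (a * (z : G))⁻¹ * (a * x * a⁻¹) * a := by rw [e]
          _ = _ := by push_cast; group }
  have hcard : (κ x).card * Nat.card D = Nat.card G * Nat.card Z := by
    have := card_image_mul (G := G × Z) (fun p : G × Z => (p.2 : G) * (p.1 * x * p.1⁻¹))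
      { carrier := {q | (q.2 : G) * (q.1 * x * q.1⁻¹) = x}
        one_mem' := by simp
        mul_mem' := by
          rintro ⟨a, s⟩ ⟨b, r⟩ (ha : (s : G) * (a * x * a⁻¹) = x) (hb : (r : G) * (b * x * b⁻¹) = x)
          show ((s * r : Z) : G) * ((a * b) * x * (a * b)⁻¹) = x
          have e := (h.central _ r.2 a).eq
          calc ((s * r : Z) : G) * ((a * b) * x * (a * b)⁻¹) = (s : G) * ((r : G) * a) * (b * x * b⁻¹) * a⁻¹ := by
                push_cast; group
            _ = (s : G) * (a * ((r : G) * (b * x * b⁻¹)) * a⁻¹) := by rw [e]; group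
            _ = x := by rw [hb, ha]
        inv_mem' := by
          rintro ⟨a, s⟩ (ha : (s : G) * (a * x * a⁻¹) = x)
          show ((s⁻¹ : Z) : G) * (a⁻¹ * x * a⁻¹⁻¹) = x
          have e := (h.central _ s.2 a⁻¹).eq
          calc ((s⁻¹ : Z) : G) * (a⁻¹ * x * a⁻¹⁻¹)
              = (s : G)⁻¹ * (a⁻¹ * ((s : G) * (a * x * a⁻¹))) * a := by rw [ha]; push_cast; group
            _ = (s : G)⁻¹ * ((a⁻¹ * (s : G)) * (a * x * a⁻¹)) * a := by group
            _ = (s : G)⁻¹ * (((s : G) * a⁻¹) * (a * x * a⁻¹)) * a := by rw [e]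
            _ = x := by group } ?_
    · rw [Nat.card_prod] at this
      rw [← this]
      congr 1
      symm
      refine Nat.card_eq_of_bijective
        (fun q => (⟨q.1.1, ⟨q.1.2⁻¹, ?_⟩⟩ : D)) ⟨?_, ?_⟩
      · have hq : (q.1.2 : G) * (q.1.1 * x * q.1.1⁻¹) = x := q.2
        rw [Subgroup.coe_inv, eq_inv_mul_iff_mul_eq]
        exact hq
      · intro q r e
        have e1 : q.1.1 = r.1.1 := congrArg Subtype.val e
        have hq : (q.1.2 : G) * (q.1.1 * x * q.1.1⁻¹) = x := q.2
        have hr : (r.1.2 : G) * (r.1.1 * x * r.1.1⁻¹) = x := r.2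
        rw [e1] at hq
        exact Subtype.ext (Prod.ext e1 (Subtype.ext (mul_right_cancel (hq.trans hr.symm))))
      · rintro ⟨a, z, hz⟩
        refine ⟨⟨(a, z⁻¹), ?_⟩, rfl⟩
        show ((z⁻¹ : Z) : G) * (a * x * a⁻¹) = x
        rw [hz, Subgroup.coe_inv, inv_mul_cancel_left]
    · rintro ⟨a, s⟩ ⟨b, r⟩
      show (s : G) * (a * x * a⁻¹) = (r : G) * (b * x * b⁻¹) ↔ ((s⁻¹ * r : Z) : G) * ((a⁻¹ * b) * x * (a⁻¹ * b)⁻¹) = x
      have e : ((s⁻¹ * r : Z) : G) * a⁻¹ = a⁻¹ * ((s⁻¹ * r : Z) : G) := (h.central _ (s⁻¹ * r).2 a⁻¹).eq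
      have e2 : ((s⁻¹ * r : Z) : G) * ((a⁻¹ * b) * x * (a⁻¹ * b)⁻¹) =
          a⁻¹ * (((s⁻¹ * r : Z) : G) * (b * x * b⁻¹)) * a := by
        calc _ = (((s⁻¹ * r : Z) : G) * a⁻¹) * (b * x * b⁻¹) * a := by group
          _ = _ := by rw [e]; group
      rw [e2]
      push_cast
      constructor
      · intro hh
        rw [mul_assoc (s : G)⁻¹, ← hh]
        group
      · intro hh
        calc (s : G) * (a * x * a⁻¹) = (s : G) * (a * (a⁻¹ * ((s : G)⁻¹ * r * (b * x * b⁻¹)) * a) * a⁻¹) := by
              rw [hh]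
          _ = _ := by group
  obtain ⟨c, hc⟩ : Nat.card Z ∣ Nat.card D :=
    Subgroup.card_dvd_of_le fun z hz => ⟨1, by rw [(h.central z hz x).eq, mul_inv_cancel_right]; simp⟩
  have hD : Nat.card D ≤ t * (L * bound1 L f * Nat.card Z) := by
    set C := Subgroup.centralizer ({x} : Set G)
    have hfin : ∀ y ∈ (Finset.univ : Finset {z : Z // IsConj x ((z : G) * x)}),
        (Finset.univ.filter fun a : D =>
          (⟨Classical.choose a.2, isConj_iff.2 ⟨a.1, Classical.choose_spec a.2⟩⟩ :
            {z : Z // IsConj x ((z : G) * x)}) = y).card ≤ Nat.card C := by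
      intro y _
      by_cases he : (Finset.univ.filter fun a : D =>
          (⟨Classical.choose a.2, isConj_iff.2 ⟨a.1, Classical.choose_spec a.2⟩⟩ :
            {z : Z // IsConj x ((z : G) * x)}) = y).Nonempty
      · obtain ⟨a0, ha0⟩ := he
        rw [Finset.mem_filter] at ha0
        rw [← Nat.card_eq_finsetCard]
        refine Nat.card_le_card_of_injective (fun a => ⟨(a0 : G)⁻¹ * (a.1 : G), ?_⟩) ?_
        · have ha := (Finset.mem_filter.1 a.2).2.trans ha0.2.symm
          have h1 := Classical.choose_spec a.1.2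
          have h2 := Classical.choose_spec a0.2
          rw [show Classical.choose a.1.2 = Classical.choose a0.2 from congrArg Subtype.val ha, ← h2,
            mul_inv_eq_iff_eq_mul] at h1
          rw [Subgroup.mem_centralizer_singleton_iff, mul_assoc, h1]
          group
        · intro a b hab
          exact Subtype.ext (Subtype.ext (mul_left_cancel (congrArg Subtype.val hab)))
      · rw [Finset.not_nonempty_iff_eq_empty.1 he, Finset.card_empty]; exact Nat.zero_le _
    have h1 := Finset.card_le_mul_card_image_of_maps_to (fun a _ => Finset.mem_univ _) _ hfin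
    rw [Finset.card_univ, Finset.card_univ, ← Nat.card_eq_fintype_card, ← Nat.card_eq_fintype_card] at h1
    rw [mul_comm t]
    exact h1.trans (Nat.mul_le_mul (small_centralizer h hx.2.1 hx.2.2) (h.trans x))
  have hc0 : 0 < c := Nat.pos_of_ne_zero fun h0 => by
    rw [h0, mul_zero] at hc; exact Nat.card_pos.ne' hc
  have hcle : c ≤ t * (L * bound1 L f) := by
    refine Nat.le_of_mul_le_mul_left (c := Nat.card Z) ?_ Nat.card_pos
    rw [← hc]; exact hD.trans (le_of_eq (by ring))
  have hk : (κ x).card * c = Nat.card G := by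
    refine Nat.eq_of_mul_eq_mul_right (Nat.card_pos (α := Z)) ?_
    rw [← hcard, hc]; ring
  rw [← hk]
  exact Nat.mul_dvd_mul_left _ (Nat.dvd_factorial hc0 hcle)

theorem exists_normal_abelian (B : ℕ)
    (hB : ∀ (m : ℕ) (ns : Multiset ℕ) (J : ℤ), Multiset.card ns ≤ 2 * nu L g f →
      (∀ n ∈ ns, 0 < n ∧ n < m) → 0 < m →
      (1 : ℚ) / m = J / ((t * (L * bound1 L f)).factorial * (nu L g f).factorial : ℕ) +
        (ns.map fun n : ℕ => (1 : ℚ) / n).sum → m ≤ B) :
    ∃ A : Subgroup G, A.Normal ∧ (∀ a ∈ A, ∀ b ∈ A, Commute a b) ∧ A.index ≤ max (nu L g f) B := by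
  classical
  haveI := Fintype.ofFinite G
  haveI : Fintype (Subgroup G) := Fintype.ofFinite _
  by_cases hn : ∃ M, IsCentre Z L f M ∧ Subgroup.normalizer (M : Set G) = ⊤
  · obtain ⟨M, hM, htop⟩ := hn
    refine ⟨M, Subgroup.normalizer_eq_top_iff.1 htop, (centre_big h hM).1.1, le_max_of_le_left ?_⟩
    refine Nat.le_of_mul_le_mul_left (c := Nat.card M) ?_ Nat.card_pos
    rw [Subgroup.card_mul_index, mul_comm]
    have := card_normalizer_le h hM
    rwa [htop, Subgroup.card_top] at this
  push Not at hn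
  refine ⟨Z, ⟨fun z hz x => by rw [← (h.central z hz x).eq, mul_inv_cancel_right]; exact hz⟩,
    fun a ha b _ => h.central a ha b, le_max_of_le_right ?_⟩
  set Ms := Finset.univ.filter fun M : Subgroup G => IsCentre Z L f M with hMs
  set T : Subgroup G → Finset G := fun M => Finset.univ.filter fun x => x ∉ Z ∧ x ∈ uSet Z L f M with hT
  set U : Subgroup G → Finset G := fun M => Finset.univ.filter fun x => x ∈ uSet Z L f M with hU
  set S := Finset.univ.filter fun x => x ∈ smallSet Z L f with hS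
  set F1 := (t * (L * bound1 L f)).factorial with hF1
  set F2 := (nu L g f).factorial with hF2
  -- the partition
  have hpart : Nat.card G = Nat.card Z + ∑ M ∈ Ms, (T M).card + S.card := by
    rw [← Finset.card_biUnion, Nat.card_eq_fintype_card, Nat.card_eq_fintype_card (α := Z),
      Fintype.card_subtype, ← Finset.card_union_of_disjoint, ← Finset.card_union_of_disjoint,
      ← Finset.card_univ]
    · congr 1
      ext x
      simp only [Finset.mem_univ, true_iff, Finset.mem_union, Finset.mem_biUnion, hMs, hT, hS,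
        Finset.mem_filter, true_and]
      by_cases hz : x ∈ Z
      · exact Or.inl (Or.inl hz)
      by_cases hM : ∃ M, IsCentre Z L f M ∧ x ∈ uSet Z L f M
      · obtain ⟨M, hM, hx⟩ := hM
        exact Or.inl (Or.inr ⟨M, hM, hz, hx⟩)
      · exact Or.inr ⟨hz, fun M h1 h2 => hM ⟨M, h1, h2⟩⟩
    · rw [Finset.disjoint_left]
      intro x hx hxS
      simp only [Finset.mem_union, Finset.mem_biUnion, hMs, hT, hS,
        Finset.mem_filter, Finset.mem_univ, true_and] at hx hxS
      rcases hx with hx | ⟨M, hM, -, hx⟩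
      · exact hxS.1 hx
      · exact hxS.2 M hM hx
    · rw [Finset.disjoint_left]
      intro x hx hx'
      simp only [Finset.mem_biUnion, hT, Finset.mem_filter, Finset.mem_univ, true_and] at hx hx'
      obtain ⟨M, -, hz, -⟩ := hx'
      exact hz hx
    · intro M hM M' hM' hne
      rw [Function.onFun, Finset.disjoint_left]
      intro x hx hx'
      simp only [hT, Finset.mem_filter, Finset.mem_univ, true_and] at hx hx'
      simp only [hMs, Finset.coe_filter, Finset.mem_univ, true_and, Set.mem_setOf_eq] at hM hM'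
      exact hne (uSet_unique h hM hM' hx.1 hx.2 hx'.2)
  -- the class of a centre
  set κ : Subgroup G → Finset (Subgroup G) := fun M =>
    Finset.univ.image fun x : G => M.map (MulAut.conj x).toMonoidHom with hκ
  set Cs := Ms.image κ with hCs
  have hrep : ∀ c ∈ Cs, ∃ M, IsCentre Z L f M ∧ c = κ M := by
    intro c hc
    obtain ⟨M, hM, rfl⟩ := Finset.mem_image.1 hc
    exact ⟨M, (Finset.mem_filter.1 hM).2, rfl⟩
  choose! rep hrepC hrepk using hrep
  have hmap : ∀ (M : Subgroup G) (a b : G), (M.map (MulAut.conj b).toMonoidHom).map (MulAut.conj a).toMonoidHom =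
      M.map (MulAut.conj (a * b)).toMonoidHom := fun M a b => by
    rw [Subgroup.map_map]; congr 1; ext y; simp [MulAut.conj_apply, mul_assoc]
  have hone : ∀ M : Subgroup G, M.map (MulAut.conj (1 : G)).toMonoidHom = M := fun M => by
    ext y; simp
  have hκeq : ∀ (M : Subgroup G) (a : G), κ (M.map (MulAut.conj a).toMonoidHom) = κ M := by
    intro M a
    ext N
    simp only [hκ, Finset.mem_image, Finset.mem_univ, true_and, hmap]
    exact ⟨fun ⟨b, hb⟩ => ⟨b * a, hb⟩, fun ⟨b, hb⟩ => ⟨b * a⁻¹, by rwa [inv_mul_cancel_right]⟩⟩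
  have hfib : ∀ c ∈ Cs, Ms.filter (fun M => κ M = c) = c := by
    intro c hc
    rw [hrepk c hc]
    ext M
    simp only [Finset.mem_filter, hMs, Finset.mem_univ, true_and]
    refine ⟨fun hM => hM.2 ▸ ?_, fun hM => ?_⟩
    · simp only [hκ, Finset.mem_image, Finset.mem_univ, true_and]
      exact ⟨1, hone M⟩
    · simp only [hκ, Finset.mem_image, Finset.mem_univ, true_and] at hM
      obtain ⟨a, rfl⟩ := hM
      exact ⟨centre_map h (hrepC c hc) a, hκeq _ a⟩
  have hTconst : ∀ c ∈ Cs, ∀ M ∈ c, (T M).card = (T (rep c)).card := by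
    intro c hc M hM
    rw [hrepk c hc] at hM
    simp only [hκ, Finset.mem_image, Finset.mem_univ, true_and] at hM
    obtain ⟨a, rfl⟩ := hM
    symm
    refine Finset.card_bij (fun x _ => a * x * a⁻¹) ?_ (fun x _ y _ e => by simpa using e) ?_
    · intro x hx
      simp only [hT, Finset.mem_filter, Finset.mem_univ, true_and] at hx ⊢
      refine ⟨fun h0 => hx.1 ?_, uSet_conj h hx.2 a⟩
      rw [show x = a⁻¹ * (a * x * a⁻¹) * a by group, mul_assoc, (h.central _ h0 a).eq, inv_mul_cancel_left]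
      exact h0
    · intro y hy
      simp only [hT, Finset.mem_filter, Finset.mem_univ, true_and] at hy
      have h2 := uSet_conj h hy.2 a⁻¹
      rw [hmap, inv_mul_cancel, hone] at h2
      refine ⟨a⁻¹ * y * a⁻¹⁻¹, ?_, by group⟩
      simp only [hT, Finset.mem_filter, Finset.mem_univ, true_and]
      refine ⟨fun h0 => hy.1 ?_, h2⟩
      rw [show y = a * (a⁻¹ * y * a⁻¹⁻¹) * a⁻¹ by group, ← (h.central _ h0 a).eq, mul_inv_cancel_right]
      exact h0
  have hTU : ∀ M, IsCentre Z L f M → (T M).card + Nat.card Z = (U M).card := by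
    intro M hM
    have hZU : (Finset.univ.filter fun x => x ∈ Z) ⊆ U M := fun x hx => by
      simp only [hU, Finset.mem_filter, Finset.mem_univ, true_and] at hx ⊢
      exact self_subset_uSet h hM ((centre_big h hM).1.2.1 hx)
    rw [Nat.card_eq_fintype_card, Fintype.card_subtype, ← Finset.card_sdiff_add_card_eq_card hZU]
    congr 2
    ext x
    simp [hT, hU, and_comm]
  have hUdvd : ∀ M, IsCentre Z L f M →
      Nat.card M ∣ (U M).card ∧ Nat.card M ≤ (U M).card := by
    intro M hM
    refine ⟨?_, ?_⟩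
    · rw [Finset.card_eq_sum_card_image (fun x : G => (x : G ⧸ M))]
      refine Finset.dvd_sum fun y hy => ?_
      obtain ⟨x, hx, rfl⟩ := Finset.mem_image.1 hy
      simp only [hU, Finset.mem_filter, Finset.mem_univ, true_and] at hx
      refine dvd_of_eq ?_
      rw [← Nat.card_eq_finsetCard]
      refine Nat.card_congr ⟨fun m => ⟨x * m.1, ?_⟩, fun w => ⟨x⁻¹ * w.1, ?_⟩, fun m => by simp,
        fun w => by simp⟩
      · simp only [hU, Finset.mem_filter, Finset.mem_univ, true_and]
        exact ⟨uSet_mul h hM hx m.2, QuotientGroup.eq.2 (by simp)⟩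
      · exact QuotientGroup.eq.1 (Finset.mem_filter.1 w.2).2.symm
    · rw [← Nat.card_eq_finsetCard]
      exact Nat.card_le_card_of_injective (fun m : M => (⟨m.1, by
        simp only [hU, Finset.mem_filter, Finset.mem_univ, true_and]
        exact self_subset_uSet h hM m.2⟩ : U M)) (fun a b e => Subtype.ext (congrArg (fun w : U M => (w : G)) e))
  set N : Finset (Subgroup G) → ℕ := fun c => Nat.card (Subgroup.normalizer (rep c : Set G)) with hN
  have hcl : ∀ c ∈ Cs, c.card * N c = Nat.card G := fun c hc => by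
    have := card_conj_mul h (rep c)
    rwa [show (Finset.univ.image fun x : G => (rep c).map (MulAut.conj x).toMonoidHom) = c from
      (hrepk c hc).symm] at this
  have hsum : ∑ M ∈ Ms, (T M).card = ∑ c ∈ Cs, c.card * (T (rep c)).card := by
    rw [← Finset.sum_fiberwise_of_maps_to (fun M hM => Finset.mem_image_of_mem κ hM)]
    refine Finset.sum_congr rfl fun c hc => ?_
    rw [hfib c hc, Finset.sum_congr rfl (hTconst c hc), Finset.sum_const, smul_eq_mul]
  -- bounded number of classes
  have hZM : ∀ M, IsCentre Z L f M → 2 * Nat.card Z ≤ Nat.card M := by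
    intro M hM
    obtain ⟨hb, hlt, -⟩ := centre_big h hM
    obtain ⟨k, hk⟩ := Subgroup.card_dvd_of_le hb.2.1
    obtain ⟨a, ha, -, -, haZ⟩ := exists_pow h hb
    rcases Nat.lt_or_ge k 2 with h2 | h2
    · exfalso
      interval_cases k
      · rw [mul_zero] at hk; exact Nat.card_pos.ne' hk
      · rw [mul_one] at hk
        exact haZ ((Subgroup.eq_of_le_of_card_ge hb.2.1 hk.le) ▸ ha)
    · rw [hk, mul_comm 2]; exact Nat.mul_le_mul_left _ h2
  have hk : Cs.card ≤ 2 * nu L g f := by
    refine Nat.le_of_mul_le_mul_left (c := Nat.card G) ?_ Nat.card_pos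
    have h1 : ∀ c ∈ Cs, Nat.card G ≤ (c.card * (T (rep c)).card) * (2 * nu L g f) := by
      intro c hc
      have hM := hrepC c hc
      have a1 := card_normalizer_le h hM
      have a2 := hTU _ hM
      have a3 := (hUdvd _ hM).2
      have a4 := hZM _ hM
      calc Nat.card G = c.card * N c := (hcl c hc).symm
        _ ≤ c.card * (nu L g f * (2 * (T (rep c)).card)) :=
          Nat.mul_le_mul_left _ (a1.trans (Nat.mul_le_mul_left _ (by omega)))
        _ = _ := by ring
    have h2 := Finset.card_nsmul_le_sum Cs _ _ h1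
    rw [smul_eq_mul, ← Finset.sum_mul, ← hsum] at h2
    rw [mul_comm]
    exact h2.trans (Nat.mul_le_mul_right _ (by omega))
  -- integrality
  obtain ⟨b, hb⟩ : Nat.card G ∣ S.card * F1 := dvd_small h
  have hw : ∀ c ∈ Cs, ∃ a, (U (rep c)).card * F2 = a * N c := by
    intro c hc
    obtain ⟨w, hw⟩ := (hUdvd _ (hrepC c hc)).1
    obtain ⟨v, hv⟩ : Nat.card (rep c) ∣ N c := Subgroup.card_dvd_of_le Subgroup.le_normalizer
    have hv0 : 0 < v := Nat.pos_of_ne_zero fun h0 => by
      rw [h0, mul_zero] at hv; exact Nat.card_pos.ne' hv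
    have hvle : v ≤ nu L g f := Nat.le_of_mul_le_mul_left (c := Nat.card (rep c))
      (by rw [← hv, mul_comm _ (nu L g f)]; exact card_normalizer_le h (hrepC c hc)) Nat.card_pos
    obtain ⟨j, hj⟩ := Nat.dvd_factorial hv0 hvle
    exact ⟨w * j, by rw [hw, hv, hF2, hj]; ring⟩
  choose! a ha using hw
  have hn' : ∀ c ∈ Cs, ∃ k, N c = Nat.card Z * k := fun c hc =>
    Subgroup.card_dvd_of_le ((centre_big h (hrepC c hc)).1.2.1.trans Subgroup.le_normalizer)
  choose! n hn' using hn'
  have hGZ : Nat.card G = Nat.card Z * Z.index := (Subgroup.card_mul_index Z).symm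
  refine hB Z.index (Cs.val.map n) ((F1 * F2 : ℕ) - ∑ c ∈ Cs, (F1 * a c : ℕ) - (b * F2 : ℕ)) ?_ ?_
    (Nat.pos_of_ne_zero Subgroup.index_ne_zero_of_finite) ?_
  · rwa [Multiset.card_map]
  · intro m hm
    obtain ⟨c, hc, rfl⟩ := Multiset.mem_map.1 hm
    refine ⟨Nat.pos_of_ne_zero fun h0 => ?_, Nat.lt_of_mul_lt_mul_left (a := Nat.card Z) ?_⟩
    · have := hn' c hc
      rw [h0, mul_zero] at this
      exact Nat.card_pos.ne' this
    · rw [← hn' c hc, ← hGZ]
      exact lt_of_le_of_ne (Subgroup.card_le_card_group _)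
        (fun e => hn _ (hrepC c hc) (Subgroup.eq_top_of_card_eq _ e))
  · have hG : (Nat.card G : ℚ) ≠ 0 := Nat.cast_ne_zero.2 Nat.card_pos.ne'
    have hZ0 : (Nat.card Z : ℚ) ≠ 0 := Nat.cast_ne_zero.2 Nat.card_pos.ne'
    have hI : (Z.index : ℚ) ≠ 0 := Nat.cast_ne_zero.2 Subgroup.index_ne_zero_of_finite
    have hF : ((F1 : ℚ) * F2) ≠ 0 := by rw [hF1, hF2]; positivity
    have e1 : ∀ c ∈ Cs, (c.card : ℚ) * (T (rep c)).card / Nat.card G = (a c : ℚ) / F2 - 1 / n c := by
      intro c hc
      have hNc : (N c : ℚ) ≠ 0 := Nat.cast_ne_zero.2 Nat.card_pos.ne'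
      have hnc : (n c : ℚ) ≠ 0 := by
        intro h0
        rw [hn' c hc, Nat.cast_mul, h0, mul_zero] at hNc
        exact hNc rfl
      have h2 : (F2 : ℚ) ≠ 0 := by rw [hF2]; positivity
      have q1 : ((T (rep c)).card : ℚ) + Nat.card Z = (U (rep c)).card := by
        exact_mod_cast hTU _ (hrepC c hc)
      have q2 : ((U (rep c)).card : ℚ) * F2 = a c * N c := by exact_mod_cast ha c hc
      have q3 : (c.card : ℚ) * N c = Nat.card G := by exact_mod_cast hcl c hc
      have q4 : (N c : ℚ) = Nat.card Z * n c := by exact_mod_cast hn' c hc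
      rw [← q3, div_sub_div _ _ h2 hnc, div_eq_div_iff (by rw [q3]; exact hG) (mul_ne_zero h2 hnc)]
      linear_combination (c.card : ℚ) * (n c : ℚ) * q2 + (c.card : ℚ) * (F2 : ℚ) * (n c : ℚ) * q1 +
        (c.card : ℚ) * (F2 : ℚ) * q4
    have q0 : (1 : ℚ) / Z.index = Nat.card Z / Nat.card G := by
      rw [hGZ]; push_cast; field_simp
    have hb' : (S.card : ℚ) / Nat.card G = b / F1 := by
      rw [div_eq_div_iff hG (by rw [hF1]; positivity)]
      have : ((S.card * F1 : ℕ) : ℚ) = ((Nat.card G * b : ℕ) : ℚ) := by exact_mod_cast hb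
      push_cast at this
      linear_combination this
    have htot : (1 : ℚ) = Nat.card Z / Nat.card G + ∑ c ∈ Cs, ((a c : ℚ) / F2 - 1 / n c) + b / F1 := by
      rw [← hb', ← Finset.sum_congr rfl e1, ← Finset.sum_div, ← add_div, ← add_div, eq_div_iff hG, one_mul]
      rw [hsum] at hpart
      exact_mod_cast hpart
    rw [Multiset.map_map]
    show _ = _ + ∑ c ∈ Cs, (1 : ℚ) / n c
    rw [Finset.sum_sub_distrib, ← Finset.sum_div] at htot
    rw [q0]
    push_cast
    rw [← Finset.mul_sum]
    have h1 : (F1 : ℚ) ≠ 0 := left_ne_zero_of_mul hF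
    have h2 : (F2 : ℚ) ≠ 0 := right_ne_zero_of_mul hF
    have e3 : ((F1 : ℚ) * F2 - F1 * ∑ c ∈ Cs, (a c : ℚ) - b * F2) / (F1 * F2) =
        1 - (∑ c ∈ Cs, (a c : ℚ)) / F2 - b / F1 := by
      field_simp
    rw [e3]
    linarith

end Cfsg.Agent.Classical.BrauerFeit
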