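import Mathlib
import Cfsg.Agent.Lib.Classical.BrauerFeit.Bounds
import Cfsg.Agent.Lib.Classical.BrauerFeit.Count

/-!
# The theorem of Brauer and Feit

A finite linear group in characteristic `p` of degree `n` with Sylow `p`-subgroup of order at most `p^m`
has a normal abelian subgroup of bounded index.
-/

set_option autoImplicit false

namespace Cfsg.Agent.Classical.BrauerFeit

universe u v

variable (p : ℕ) [Fact p.Prime]

theorem virtAbelian (m : ℕ) : ∀ n, VirtAbelian.{u, v} p n m := by
  intro n
  induction n with
  | zero =>
    refine ⟨1, fun G _ _ K _ _ _ V _ _ _ ρ hρ hn _ => ⟨⊤, inferInstance, fun a _ b _ => hρ ?_, by simp⟩⟩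
    haveI : Subsingleton V := Module.finrank_zero_iff.1 (Nat.le_zero.1 hn)
    exact LinearMap.ext fun v => Subsingleton.elim _ _
  | succ n ih =>
    obtain ⟨L0, hL0⟩ := ih
    let L := max 1 (centBound p m L0)
    let f : ℕ → ℕ := fun k => rootBound p m k (n + 1)
    let g := rootBound p m (n + 1) (n + 1)
    let t := n + 1
    obtain ⟨B, hB⟩ := unit_fractions (2 * nu L g f) ((t * (L * bound1 L f)).factorial * (nu L g f).factorial)
      (Nat.mul_pos (Nat.factorial_pos _) (Nat.factorial_pos _))
    refine ⟨max (nu L g f) B, fun G _ _ K _ _ _ V _ _ _ ρ hρ hn hm => ?_⟩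
    classical
    have h : Hyp (scal ρ) L g t f := by
      refine ⟨le_max_left _ _, fun z hz a => scal_commute hρ hz a, fun x hx => ?_, fun k hk A hA => ?_,
        fun A hA r => ?_, fun x => ?_⟩
      · obtain ⟨H, h1, h2, h3, h4, h5⟩ := exists_abelian_centralizer p (n := n) (m := m)
          (fun G' _ _ V' _ _ _ ρ' => hL0 G' K V' ρ') hρ hn hm hx
        exact ⟨H, h1, h2, h3, h4, h5.trans (Nat.mul_le_mul_right _ (le_max_right _ _))⟩
      · haveI := Fintype.ofFinite {a : A // (a : G) ^ k ∈ scal ρ}
        haveI := Fintype.ofFinite (scal ρ)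
        let φ : {a : A // (a : G) ^ k ∈ scal ρ} → scal ρ := fun a => ⟨(a.1 : G) ^ k, a.2⟩
        have hfib : ∀ z ∈ (Finset.univ : Finset (scal ρ)),
            (Finset.univ.filter fun a => φ a = z).card ≤ f k := by
          intro z _
          by_cases he : (Finset.univ.filter fun a => φ a = z).Nonempty
          · obtain ⟨a0, ha0⟩ := he
            refine le_trans ?_ (card_roots_subgroup_le p hρ (n := n + 1) (d := k) hn hm A hA
              (Polynomial.X ^ k - Polynomial.C 1) (Polynomial.monic_X_pow_sub_C _ hk.ne')
              (le_of_eq Polynomial.natDegree_X_pow_sub_C))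
            rw [← Nat.card_eq_finsetCard]
            refine Nat.card_le_card_of_injective (fun a => ⟨a0.1⁻¹ * a.1.1, ?_⟩) ?_
            · have e : (a.1.1 : G) ^ k = (a0.1 : G) ^ k :=
                congrArg Subtype.val ((Finset.mem_filter.1 a.2).2.trans (Finset.mem_filter.1 ha0).2.symm)
              have e2 : ((a0.1⁻¹ * a.1.1 : A) : G) ^ k = 1 := by
                rw [Subgroup.coe_mul, (hA _ (a0.1⁻¹).2 _ a.1.1.2).mul_pow, e, Subgroup.coe_inv, inv_pow,
                  inv_mul_cancel]
              rw [map_sub, map_pow, Polynomial.aeval_X, Polynomial.aeval_C, ← map_pow, e2, map_one, map_one,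
                sub_self]
            · intro a b hab
              exact Subtype.ext (Subtype.ext (mul_left_cancel (congrArg Subtype.val hab)))
          · rw [Finset.not_nonempty_iff_eq_empty.1 he, Finset.card_empty]; exact Nat.zero_le _
        have h1 := Finset.card_le_mul_card_image_of_maps_to (f := φ) (fun a _ => Finset.mem_univ _) _ hfib
        rwa [Finset.card_univ, Finset.card_univ, ← Nat.card_eq_fintype_card, ← Nat.card_eq_fintype_card] at h1
      · refine le_trans ?_ (card_roots_subgroup_le p hρ (n := n + 1) (d := n + 1) hn hm A hA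
          (LinearMap.charpoly (ρ r)) (LinearMap.charpoly_monic _)
          ((LinearMap.charpoly_natDegree _).trans_le hn))
        refine Nat.card_le_card_of_injective (fun y => ⟨y.1, ?_⟩) (fun a b e => Subtype.ext (Subtype.mk.inj e))
        obtain ⟨c, hc⟩ := isConj_iff.1 y.2
        have key : ∀ Q : Polynomial K,
            Polynomial.aeval (ρ (y.1 : G)) Q = ρ c * Polynomial.aeval (ρ r) Q * ρ c⁻¹ := by
          intro Q
          induction Q using Polynomial.induction_on with
          | C a =>
            rw [Polynomial.aeval_C, Polynomial.aeval_C, ← (Algebra.commutes a (ρ c)), mul_assoc, ← map_mul,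
              mul_inv_cancel, map_one, mul_one]
          | add P R hP hR => rw [map_add, map_add, hP, hR, mul_add, add_mul]
          | monomial k a ihk =>
            rw [pow_succ, ← mul_assoc, map_mul (Polynomial.aeval (ρ (y.1 : G))), map_mul (Polynomial.aeval (ρ r)), ihk,
              Polynomial.aeval_X, Polynomial.aeval_X, ← hc]
            simp only [map_mul ρ, mul_assoc]
            rw [← mul_assoc (ρ c⁻¹) (ρ c), ← map_mul ρ c⁻¹ c, inv_mul_cancel, map_one, one_mul]
        rw [key, LinearMap.aeval_self_charpoly, mul_zero, zero_mul]
      · rcases subsingleton_or_nontrivial V with hV | hV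
        · haveI : Subsingleton G := ⟨fun a b => hρ (LinearMap.ext fun v => Subsingleton.elim _ _)⟩
          exact (Nat.card_le_card_of_injective (fun _ => (0 : Fin 1)) (fun a b _ => Subsingleton.elim a b)).trans
            (by simp [t])
        · have hd : 0 < Module.finrank K V := Module.finrank_pos
          have hz : ∀ z : {z : scal ρ // IsConj x ((z : G) * x)},
              ∃ c ∈ (Polynomial.nthRoots (Module.finrank K V) (1 : K)).toFinset, ρ (z.1 : G) = c • (1 : Module.End K V) := by
            rintro ⟨⟨z, c, hc⟩, hzx⟩
            refine ⟨c, ?_, hc⟩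
            rw [Multiset.mem_toFinset, Polynomial.mem_nthRoots hd]
            obtain ⟨a, ha⟩ := isConj_iff.1 hzx
            have hdet : LinearMap.det (ρ x) ≠ 0 := by
              intro h0
              have := congrArg LinearMap.det (show ρ x * ρ x⁻¹ = 1 by rw [← map_mul, mul_inv_cancel, map_one])
              rw [map_mul, h0, zero_mul, map_one] at this
              exact zero_ne_one this
            have h1 := congrArg (fun w => LinearMap.det (ρ w)) ha
            simp only [map_mul] at h1
            have h2 : LinearMap.det (ρ a) * LinearMap.det (ρ a⁻¹) = 1 := by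
              rw [← map_mul, ← map_mul ρ, mul_inv_cancel, map_one, map_one]
            have h3 : LinearMap.det (ρ z) = c ^ Module.finrank K V := by
              rw [hc, LinearMap.det_smul, map_one, mul_one]
            rw [← h3]
            refine mul_right_cancel₀ hdet ?_
            rw [← h1, one_mul]
            linear_combination LinearMap.det (ρ x) * h2
          choose c hc hρc using hz
          calc Nat.card _ ≤ Nat.card (Polynomial.nthRoots (Module.finrank K V) (1 : K)).toFinset :=
                Nat.card_le_card_of_injective (fun z => ⟨c z, hc z⟩) (fun a b e =>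
                  Subtype.ext (Subtype.ext (hρ (by rw [hρc a, hρc b, show c a = c b from congrArg Subtype.val e]))))
            _ ≤ t := by
              rw [Nat.card_eq_finsetCard]
              exact ((Multiset.toFinset_card_le _).trans (Polynomial.card_nthRoots _ _)).trans hn
    exact exists_normal_abelian h B (fun m ns J h1 h2 h3 h4 => hB m ns J h1 h2 h3 h4)

/-- the index bound -/
noncomputable def jordanBound (m n : ℕ) : ℕ := Classical.choose (virtAbelian.{u, v} p m n)

theorem brauer_feit {G : Type u} [Group G] [Finite G] {F : Type v} [Field F] [CharP F p] (n : ℕ)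
    (ρ : Representation F G (Fin n → F)) (hρ : Function.Injective ρ) (m : ℕ)
    (hm : (Nat.card G).factorization p = m) :
    ∃ A : Subgroup G, A.Normal ∧ IsMulCommutative A ∧ A.index < jordanBound.{u, v} p m n + 1 := by
  haveI : CharP (AlgebraicClosure F) p := charP_of_injective_algebraMap (algebraMap F (AlgebraicClosure F)).injective p
  let φ : G →* Module.End (AlgebraicClosure F) (Fin n → AlgebraicClosure F) :=
    { toFun := fun g => Matrix.toLinAlgEquiv'
        ((LinearMap.toMatrixAlgEquiv' (ρ g)).map (algebraMap F (AlgebraicClosure F)))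
      map_one' := by
        rw [map_one ρ, map_one, Matrix.map_one _ (map_zero _) (map_one _), map_one]
      map_mul' := fun a b => by
        rw [map_mul ρ, map_mul, Matrix.map_mul, map_mul] }
  have hφ : Function.Injective φ := fun a b e => by
    refine hρ ((LinearMap.toMatrixAlgEquiv' (R := F) (n := Fin n)).injective ?_)
    exact Matrix.map_injective (algebraMap F (AlgebraicClosure F)).injective
      ((Matrix.toLinAlgEquiv' (R := AlgebraicClosure F) (n := Fin n)).injective e)
  obtain ⟨A, h1, h2, h3⟩ := Classical.choose_spec (virtAbelian.{u, v} p m n) G (AlgebraicClosure F)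
    (Fin n → AlgebraicClosure F) φ hφ (le_of_eq (Module.finrank_fin_fun _)) hm.le
  exact ⟨A, h1, ⟨⟨fun a b => Subtype.ext (h2 a a.2 b b.2)⟩⟩, Nat.lt_succ_of_le h3⟩

end Cfsg.Agent.Classical.BrauerFeit
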